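import Cfsg.Agent.Omega.NTwo.Core

/-!
# Exit N2: the minimal parabolic `P'` and the nonlocal pair
-/

set_option autoImplicit false

namespace Cfsg.Agent.Omega.NTwo

open Subgroup Cfsg Cfsg.Agent.ZN Cfsg.Agent.MinSimple.VModule Pointwise
open Cfsg.Agent.Omega.MinPar (IsPar IsParS IsLoc NonLoc isLoc_of_le_normalizer)

universe u

variable {G : Type u} [Group G]

/-! ### Sylow -/

/-- a 2-subgroup of `C`, `C` containing a Sylow subgroup `T₀` of `G`, lies in a `C`-conjugate of `T₀` -/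
theorem exists_conj_le' [Finite G] (T₀ : Sylow 2 G) {C T : Subgroup G} (hC : (T₀ : Subgroup G) ≤ C) (hT : IsPGroup 2 T)
    (hTC : T ≤ C) : ∃ c ∈ C, T ≤ ((c • T₀ : Sylow 2 G) : Subgroup G) ∧ ((c • T₀ : Sylow 2 G) : Subgroup G) ≤ C := by
  have : Fact (Nat.Prime 2) := ⟨Nat.prime_two⟩
  have h1 : IsPGroup 2 (T.subgroupOf C) := hT.comap_of_injective _ C.subtype_injective
  obtain ⟨Q, hQ⟩ := h1.exists_le_sylow
  obtain ⟨c, hc⟩ := MulAction.exists_smul_eq C (T₀.subtype hC) Q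
  refine ⟨(c : G), c.2, ?_, ?_⟩
  · intro x hx
    have h2 : (⟨x, hTC hx⟩ : C) ∈ (Q : Subgroup C) := hQ (mem_subgroupOf.2 hx)
    rw [← hc, Sylow.coe_subgroup_smul, mem_pointwise_smul_iff_inv_smul_mem] at h2
    rw [Sylow.coe_subgroup_smul, mem_pointwise_smul_iff_inv_smul_mem]
    exact h2
  · intro x hx
    rw [Sylow.coe_subgroup_smul, mem_pointwise_smul_iff_inv_smul_mem] at hx
    have h3 := hC hx
    have h4 : MulAut.conj ((c : G))⁻¹ x ∈ C := by
      have : (MulAut.conj (c : G))⁻¹ • x = MulAut.conj ((c : G))⁻¹ x := by rw [map_inv]; rfl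
      rwa [this] at h3
    rw [MulAut.conj_apply, inv_inv] at h4
    have h5 := mul_mem (mul_mem c.2 h4) (inv_mem c.2)
    have e : (c : G) * ((c : G)⁻¹ * x * c) * (c : G)⁻¹ = x := by group
    rwa [e] at h5

theorem exists_conj_le [Finite G] (T₀ : Sylow 2 G) {C T : Subgroup G} (hC : (T₀ : Subgroup G) ≤ C) (hT : IsPGroup 2 T)
    (hTC : T ≤ C) : ∃ T₁ : Sylow 2 G, T ≤ (T₁ : Subgroup G) ∧ (T₁ : Subgroup G) ≤ C := by
  obtain ⟨c, -, h1, h2⟩ := exists_conj_le' T₀ hC hT hTC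
  exact ⟨_, h1, h2⟩

theorem mem_smul {g x : G} {T₀ : Sylow 2 G} : x ∈ ((g • T₀ : Sylow 2 G) : Subgroup G) ↔
    g⁻¹ * x * g ∈ (T₀ : Subgroup G) := by
  rw [Sylow.coe_subgroup_smul, mem_pointwise_smul_iff_inv_smul_mem]
  have : (MulAut.conj g)⁻¹ • x = g⁻¹ * x * g := by
    rw [← map_inv]
    change MulAut.conj g⁻¹ x = _
    rw [MulAut.conj_apply, inv_inv]
  rw [this]

/-- a 2-element normalising `V` is `N(V)`-conjugate into `S ≤ N(V)` -/
theorem exists_conj_mem [Finite G] (S : Sylow 2 G) {C : Subgroup G} (hC : (S : Subgroup G) ≤ C) {t : G} (ht : t ∈ C)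
    (h2 : IsPGroup 2 (zpowers t)) : ∃ c ∈ C, c * t * c⁻¹ ∈ (S : Subgroup G) := by
  obtain ⟨c, hc, h1, -⟩ := exists_conj_le' S hC h2 (zpowers_le.2 ht)
  refine ⟨c⁻¹, inv_mem hc, ?_⟩
  rw [inv_inv]
  exact mem_smul.1 (h1 (mem_zpowers t))

/-- `K ⊴ C`, `K² ≤ N ⊴ C`, `S ≤ C` Sylow: `K ≤ S N`. -/
theorem exists_mul [Finite G] (S : Sylow 2 G) {C N K : Subgroup G} (hS : (S : Subgroup G) ≤ C)
    (hN : C ≤ normalizer (N : Set G)) (hKC : K ≤ C) (hK : C ≤ normalizer (K : Set G)) (hsq : ∀ k ∈ K, k * k ∈ N) :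
    ∀ k ∈ K, ∃ x ∈ (S : Subgroup G), x⁻¹ * k ∈ N := by
  have : Fact (Nat.Prime 2) := ⟨Nat.prime_two⟩
  have : (N.subgroupOf C).Normal := normal_subgroupOf_of_le_normalizer hN
  obtain ⟨π, hπ⟩ : ∃ π : C →* C ⧸ N.subgroupOf C, π = QuotientGroup.mk' _ := ⟨_, rfl⟩
  have hs : Function.Surjective π := hπ ▸ QuotientGroup.mk'_surjective _
  obtain ⟨SQ, hSQ⟩ : ∃ SQ : Sylow 2 (C ⧸ N.subgroupOf C), SQ = (S.subtype hS).mapSurjective hs := ⟨_, rfl⟩
  have hSQ' : (SQ : Subgroup (C ⧸ N.subgroupOf C)) = ((S : Subgroup G).subgroupOf C).map π := by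
    rw [hSQ, Sylow.coe_mapSurjective]
    rfl
  have h1 : IsPGroup 2 ((K.subgroupOf C).map π) := by
    intro y
    obtain ⟨y, k, hk, rfl⟩ := y
    refine ⟨1, Subtype.ext ?_⟩
    have h2 : π (k * k) = 1 := by
      rw [hπ, QuotientGroup.mk'_apply, QuotientGroup.eq_one_iff]
      exact hsq k (mem_subgroupOf.1 hk)
    rw [map_mul] at h2
    simpa [pow_two] using h2
  have h2 : ((K.subgroupOf C).map π).Normal := by
    have : (K.subgroupOf C).Normal := normal_subgroupOf_of_le_normalizer hK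
    exact this.map π hs
  have h3 : (K.subgroupOf C).map π ≤ SQ := by
    have h4 : IsPGroup 2 ((SQ : Subgroup (C ⧸ N.subgroupOf C)) ⊔ (K.subgroupOf C).map π : Subgroup _) :=
      SQ.isPGroup'.to_sup_of_normal_right h1
    have h5 := SQ.is_maximal' h4 le_sup_left
    exact le_sup_right.trans h5.le
  intro k hk
  have h4 : π ⟨k, hKC hk⟩ ∈ (SQ : Subgroup (C ⧸ N.subgroupOf C)) := h3 ⟨_, mem_subgroupOf.2 hk, rfl⟩
  rw [hSQ'] at h4
  obtain ⟨x, hx, h5⟩ := h4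
  refine ⟨x, mem_subgroupOf.1 hx, ?_⟩
  have h6 : π (x⁻¹ * ⟨k, hKC hk⟩) = 1 := by
    rw [map_mul, map_inv, h5, inv_mul_cancel]
  rw [hπ, QuotientGroup.mk'_apply, QuotientGroup.eq_one_iff] at h6
  exact mem_subgroupOf.1 h6

/-! ### The minimal parabolic `P'` -/

/-- a Sylow subgroup of `C(n)` over `T` does not centralise `s` -/
theorem not_cent [Finite G] (S : Sylow 2 G) {P : Subgroup G} {p : Fin 5 → G} (h : Std (S : Subgroup G) P p)
    (T₁ : Sylow 2 G) (hTT₁ : Std.T (S : Subgroup G) p ≤ T₁) (hT₁ : (T₁ : Subgroup G) ≤ centralizer ({nn p} : Set G)) :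
    ¬ ∀ x ∈ (T₁ : Subgroup G), x * p 4 * x⁻¹ = p 4 := by
  intro h1
  have hp2 : Fact (Nat.Prime 2) := ⟨Nat.prime_two⟩
  have h2 : p 4 ∈ zc (T₁ : Subgroup G) :=
    mem_zc.2 ⟨hTT₁ (zc_le _ (h.mem_zcT.2 (Or.inr (Or.inr (Or.inr rfl))))), fun b hb => comm_iff.1 (h1 b hb),
      by rw [sq]; exact h.sq 4⟩
  have h3 : nn p ∈ zc (T₁ : Subgroup G) :=
    mem_zc.2 ⟨hTT₁ (zc_le _ (h.mem_zcT.2 (Or.inr (Or.inl rfl)))), fun b hb => comm_iff.1 (mem_cent.1 (hT₁ hb)),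
      by rw [sq]; exact h.nsq⟩
  obtain ⟨g, hg⟩ := MulAction.exists_smul_eq G T₁ S
  have h4 : ∀ y ∈ zc (T₁ : Subgroup G), g * y * g⁻¹ ∈ zc (S : Subgroup G) := by
    intro y hy
    obtain ⟨k1, k2, k3⟩ := mem_zc.1 hy
    have hSg : ∀ b, b ∈ (S : Subgroup G) ↔ g⁻¹ * b * g ∈ (T₁ : Subgroup G) := by
      intro b
      rw [← hg]
      exact mem_smul
    refine mem_zc.2 ⟨?_, fun b hb => ?_, ?_⟩
    · rw [hSg]
      have e : g⁻¹ * (g * y * g⁻¹) * g = y := by group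
      rwa [e]
    · have h5 := k2 _ ((hSg b).1 hb)
      calc b * (g * y * g⁻¹) = g * (g⁻¹ * b * g * y) * g⁻¹ := by group
        _ = g * (y * (g⁻¹ * b * g)) * g⁻¹ := by rw [h5]
        _ = g * y * g⁻¹ * b := by group
    · rw [conj_pow, k3, mul_one, mul_inv_cancel]
  have h5 : ∀ y ∈ zc (T₁ : Subgroup G), y ≠ 1 → g * y * g⁻¹ = p 4 := by
    intro y hy hy1
    refine (h.zc4 _ (h4 y hy)).resolve_left fun e => hy1 ?_
    calc y = g⁻¹ * (g * y * g⁻¹) * g := by group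
      _ = 1 := by rw [e]; group
  have h6 := h5 _ h3 h.n_ne_one
  have h7 := h5 _ h2 (h.ne 4)
  exact h.n_ne_four (conj_inj (h6.trans h7.symm))

/-- the Klein group `{1, n, a, s}` -/
theorem exists_par [Finite G] (S : Sylow 2 G) {P : Subgroup G} {p : Fin 5 → G} (h : Std (S : Subgroup G) P p)
    (T₀ : Sylow 2 G) (hT₀ : ∀ x ∈ (T₀ : Subgroup G), x * nn p * x⁻¹ = nn p) :
    ∃ P' : Subgroup G, IsParS (S : Subgroup G) P' ∧ (∃ y ∈ P', y * p 4 * y⁻¹ = nn p) ∧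
      (∀ x, x ∈ zl (S : Subgroup G) P' ↔ x = 1 ∨ x = nn p ∨ x = aa p ∨ x = p 4) ∧
      P' ≤ normalizer (Std.T (S : Subgroup G) p : Set G) := by
  have hp2 : Fact (Nat.Prime 2) := ⟨Nat.prime_two⟩
  have hTn : Std.T (S : Subgroup G) p ≤ centralizer ({nn p} : Set G) := inf_le_right
  have hT2 : IsPGroup 2 (Std.T (S : Subgroup G) p) := S.isPGroup'.to_le Std.T_le
  obtain ⟨T₁, hTT₁, hT₁⟩ := exists_conj_le T₀ (fun x hx => mem_cent.2 (hT₀ x hx)) hT2 hTn
  -- `T` has index 2 in `T₁`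
  have hcard : Nat.card (T₁ : Subgroup G) = 2 * Nat.card (Std.T (S : Subgroup G) p) := by
    rw [← h.card_S]
    exact Nat.card_congr (Sylow.equiv T₁ S).toEquiv
  have hT₁n : (T₁ : Subgroup G) ≤ normalizer (Std.T (S : Subgroup G) p : Set G) := by
    have e : Nat.card ((Std.T (S : Subgroup G) p).subgroupOf (T₁ : Subgroup G)) = Nat.card (Std.T (S : Subgroup G) p) :=
      Nat.card_congr (subgroupOfEquivOfLe hTT₁).toEquiv
    have h1 := card_mul_index ((Std.T (S : Subgroup G) p).subgroupOf (T₁ : Subgroup G))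
    rw [e, hcard] at h1
    have h2 : ((Std.T (S : Subgroup G) p).subgroupOf (T₁ : Subgroup G)).index = 2 := by
      have h3 : 0 < Nat.card (Std.T (S : Subgroup G) p) := Nat.card_pos
      rw [mul_comm] at h1
      exact Nat.eq_of_mul_eq_mul_right h3 h1
    have h3 := normal_of_index_eq_two h2
    exact (normal_subgroupOf_iff_le_normalizer hTT₁).1 h3
  obtain ⟨X, hX⟩ : ∃ X, X = (S : Subgroup G) ⊔ T₁ := ⟨_, rfl⟩
  have hSX : (S : Subgroup G) ≤ X := hX ▸ le_sup_left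
  have hTX : (T₁ : Subgroup G) ≤ X := hX ▸ le_sup_right
  have hXn : X ≤ normalizer (Std.T (S : Subgroup G) p : Set G) := hX ▸ sup_le h.le_norm_T hT₁n
  have hT1 : Std.T (S : Subgroup G) p ≠ ⊥ := fun e => by
    have h1 : nn p ∈ Std.T (S : Subgroup G) p := Std.mem_T.2 ⟨h.n_mem, by group⟩
    rw [e, mem_bot] at h1
    exact h.n_ne_one h1
  have hloc : IsLoc (S : Subgroup G) X := isLoc_of_le_normalizer S hSX hT2 hT1 hXn
  have hnot : ¬ X ≤ normalizer (zc (S : Subgroup G) : Set G) := by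
    intro hX1
    -- `T₁` centralises `s`
    have hs : p 4 ∈ zc (S : Subgroup G) :=
      mem_zc.2 ⟨h.mem 4, fun b hb => comm_iff.1 (h.fix b hb), by rw [sq]; exact h.sq 4⟩
    refine not_cent S h T₁ hTT₁ hT₁ fun x hx => ?_
    have h2 := (mem_normalizer_iff.1 (hX1 (hTX hx)) _).1 hs
    rcases h.zc4 _ h2 with h3 | h3
    · exfalso
      refine h.ne 4 ?_
      calc p 4 = x⁻¹ * (x * p 4 * x⁻¹) * x := by group
        _ = 1 := by rw [h3]; group
    · exact h3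
  obtain ⟨P', hP', hP'X, hP'n⟩ := hloc.exists_not_le S
    (inf_le_right.trans (normalizer_le_normalizer_zc _)) hnot
  have hPS : IsParS (S : Subgroup G) P' := ⟨hP', hP'n⟩
  have hP'T : P' ≤ normalizer (Std.T (S : Subgroup G) p : Set G) := hP'X.trans hXn
  have hzcT : (zc (S : Subgroup G)) ≤ zc (Std.T (S : Subgroup G) p) := by
    intro x hx
    rcases h.zc4 x hx with rfl | rfl
    · exact one_mem _
    · exact h.mem_zcT.2 (Or.inr (Or.inr (Or.inr rfl)))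
  have hle : zl (S : Subgroup G) P' ≤ zc (Std.T (S : Subgroup G) p) :=
    zl_le hzcT (hP'T.trans (normalizer_le_normalizer_zc _))
  have hs : p 4 ∈ zc (S : Subgroup G) :=
    mem_zc.2 ⟨h.mem 4, fun b hb => comm_iff.1 (h.fix b hb), by rw [sq]; exact h.sq 4⟩
  have hsz : p 4 ∈ zl (S : Subgroup G) P' := zc_le_zl _ _ hs
  -- an element of `P'` moving `s`
  obtain ⟨y, hy, hys⟩ : ∃ y ∈ P', y * p 4 * y⁻¹ ≠ p 4 := by
    by_contra hcon
    push Not at hcon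
    refine hP'n fun y hy => ?_
    rw [mem_normalizer_iff]
    intro x
    constructor
    · intro hx
      rcases h.zc4 x hx with rfl | rfl
      · simp
      · rw [hcon y hy]; exact hs
    · intro hx
      have hx' : y * x * y⁻¹ = 1 ∨ y * x * y⁻¹ = p 4 := h.zc4 _ hx
      rcases hx' with h1 | h1
      · have : x = 1 := by
          calc x = y⁻¹ * (y * x * y⁻¹) * y := by group
            _ = 1 := by rw [h1]; group
        rw [this]; exact one_mem _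
      · rw [← hcon y hy] at h1
        rw [conj_inj h1]; exact hs
  have hyz : y * p 4 * y⁻¹ ∈ zl (S : Subgroup G) P' := (mem_normalizer_iff.1 (le_normalizer_zl _ _ hy) _).1 hsz
  obtain ⟨y', hy', hy'n⟩ : ∃ y ∈ P', y * p 4 * y⁻¹ = nn p := by
    rcases h.mem_zcT.1 (hle hyz) with h1 | h1 | h1 | h1
    · exfalso
      refine h.ne 4 ?_
      calc p 4 = y⁻¹ * (y * p 4 * y⁻¹) * y := by group
        _ = 1 := by rw [h1]; group
    · exact ⟨y, hy, h1⟩
    · obtain ⟨τ, hτ, h2⟩ := h.tau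
      refine ⟨τ * y, mul_mem (hP'.le hτ) hy, ?_⟩
      rw [← cc, h1]
      exact h.s_eq_conj hτ h2
    · exact absurd h1 hys
  have hnz : nn p ∈ zl (S : Subgroup G) P' := hy'n ▸ (mem_normalizer_iff.1 (le_normalizer_zl _ _ hy') _).1 hsz
  refine ⟨P', hPS, ⟨y', hy', hy'n⟩, fun x => ⟨fun hx => h.mem_zcT.1 (hle hx), ?_⟩, hP'T⟩
  rintro (rfl | rfl | rfl | rfl)
  · exact one_mem _
  · exact hnz
  · rw [h.a_eq]; exact mul_mem hnz hsz
  · exact hsz

/-! ### The nonlocal pair -/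

/-- permutations of five points fixing `4`, or stabilising `{0, 1}`, generate everything -/
theorem perm_gen (E : Set (Equiv.Perm (Fin 5))) (hmul : ∀ σ ∈ E, ∀ τ ∈ E, σ * τ ∈ E)
    (h1 : ∀ σ : Equiv.Perm (Fin 5), σ 4 = 4 → σ ∈ E)
    (h2 : Equiv.swap (2 : Fin 5) 4 ∈ E) : ∀ σ, σ ∈ E := by
  have key : ∀ σ : Equiv.Perm (Fin 5), σ 4 ≠ 4 → ∃ α β : Equiv.Perm (Fin 5), α 4 = 4 ∧ β 4 = 4 ∧
      σ = α * (Equiv.swap 2 4 * β) := by
    intro σ hσ
    -- `α` maps `2` to `σ 4`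
    have hα : (Equiv.swap 2 (σ 4) : Equiv.Perm (Fin 5)) 4 = 4 :=
      Equiv.swap_apply_of_ne_of_ne (by decide) hσ.symm
    refine ⟨Equiv.swap 2 (σ 4), Equiv.swap 2 4 * (Equiv.swap 2 (σ 4) * σ), hα, ?_, ?_⟩
    · simp
    · rw [← mul_assoc (Equiv.swap 2 4), Equiv.swap_mul_self, one_mul, ← mul_assoc, Equiv.swap_mul_self, one_mul]
  intro σ
  by_cases h : σ 4 = 4
  · exact h1 σ h
  · obtain ⟨α, β, hα, hβ, rfl⟩ := key σ h
    exact hmul _ (h1 α hα) _ (hmul _ h2 _ (h1 β hβ))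

/-- **The core of exit N2.** -/
theorem nonLoc [Finite G] (hG : IsCharacteristicTwoType G) (S : Sylow 2 G) {P : Subgroup G} {p : Fin 5 → G}
    (h : Std (S : Subgroup G) P p) {P' : Subgroup G} (hSP' : (S : Subgroup G) ≤ P')
    (hP' : ∃ y ∈ P', y * p 4 * y⁻¹ = nn p) (T₀ : Sylow 2 G)
    (hT₀ : ∀ x ∈ (T₀ : Subgroup G), x * nn p * x⁻¹ = nn p) {t : G} (ht0 : t * p 0 * t⁻¹ = p 1)
    (htn : t * nn p * t⁻¹ = nn p)
    (htQ : ∀ q ∈ o2 (centralizer ({nn p} : Set G)), t * q * t⁻¹ = q ∨ t * q * t⁻¹ = nn p * q) :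
    NonLoc P' (centralizer ({p 4} : Set G)) := by
  intro B hB hPB hCB
  by_contra hB1
  obtain ⟨y, hy, hyn⟩ := hP'
  obtain ⟨M, hM⟩ : ∃ M : Subgroup G, M = normalizer (B : Set G) := ⟨_, rfl⟩
  rw [← hM] at hPB hCB
  have hloc : IsLoc (S : Subgroup G) M := isLoc_of_le_normalizer S (hSP'.trans hPB) hB hB1 hM.le
  -- `C(n) ≤ M`
  have hyM : y ∈ M := hPB hy
  have hnM : centralizer ({nn p} : Set G) ≤ M := by
    intro g hg
    rw [mem_cent] at hg
    have h1 : y⁻¹ * g * y ∈ centralizer ({p 4} : Set G) := by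
      rw [mem_cent]
      calc y⁻¹ * g * y * p 4 * (y⁻¹ * g * y)⁻¹ = y⁻¹ * (g * (y * p 4 * y⁻¹) * g⁻¹) * y := by group
        _ = y⁻¹ * (y * p 4 * y⁻¹) * y := by rw [hyn, hg]
        _ = p 4 := by group
    have h2 := mul_mem (mul_mem hyM (hCB h1)) (inv_mem hyM)
    have e : y * (y⁻¹ * g * y) * y⁻¹ = g := by group
    rwa [e] at h2
  -- `P ≤ M`
  have hPM : P ≤ M := by
    have h1 : ∀ σ : Equiv.Perm (Fin 5), ∃ g ∈ M, g ∈ P ∧ ∀ i, g * p i * g⁻¹ = p (σ i) := by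
      refine perm_gen {σ | ∃ g ∈ M, g ∈ P ∧ ∀ i, g * p i * g⁻¹ = p (σ i)} ?_ ?_ ?_
      · rintro σ ⟨g, hg, hgP, h1⟩ τ ⟨k, hk, hkP, h2⟩
        refine ⟨g * k, mul_mem hg hk, mul_mem hgP hkP, fun i => ?_⟩
        rw [← cc, h2, h1]
        rfl
      · intro σ hσ
        obtain ⟨g, hg, h1⟩ := h.full σ
        refine ⟨g, hCB ?_, hg, h1⟩
        rw [mem_cent, h1, hσ]
      · obtain ⟨g, hg, h1⟩ := h.full (Equiv.swap 2 4)
        refine ⟨g, hnM ?_, hg, h1⟩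
        rw [mem_cent, nn, cm, h1, h1]
        rfl
    intro g hg
    obtain ⟨σ, hσ⟩ := h.perm g hg
    obtain ⟨g', hg', -, h2⟩ := h1 σ
    exact Fv.mem_of_same hCB hg' fun i => by rw [hσ, h2]
  -- `U = ⟨s^M⟩`
  obtain ⟨U, hU⟩ : ∃ U, U = zl (S : Subgroup G) M := ⟨_, rfl⟩
  have hs : p 4 ∈ zc (S : Subgroup G) :=
    mem_zc.2 ⟨h.mem 4, fun b hb => comm_iff.1 (h.fix b hb), by rw [sq]; exact h.sq 4⟩
  have hMU : ∀ m ∈ M, ∀ u ∈ U, m * u * m⁻¹ ∈ U := fun m hm u hu => by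
    rw [hU] at hu ⊢
    exact (mem_normalizer_iff.1 (le_normalizer_zl _ _ hm) u).1 hu
  have hsU : p 4 ∈ U := hU ▸ zc_le_zl _ _ hs
  have hpU : ∀ i, p i ∈ U := by
    intro i
    obtain ⟨g, hg, h1⟩ := h.full (Equiv.swap 4 i)
    have h2 := hMU g (hPM hg) _ hsU
    rwa [h1, Equiv.swap_apply_left] at h2
  have hnU : nn p ∈ U := mul_mem (hpU 0) (hpU 1)
  have hUzc : U ≤ zc (o2 M) := hU ▸ hloc.zl_le S hG
  have hUc : ∀ u ∈ U, ∀ v ∈ U, u * v = v * u := fun u hu v hv => zc_comm _ u (hUzc hu) v (hUzc hv)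
  have hUs : ∀ u ∈ U, u * u = 1 := fun u hu => by rw [← sq]; exact zc_sq _ u (hUzc hu)
  -- `U ≤ O₂(C(n))`
  have hUQ : U ≤ o2 (centralizer ({nn p} : Set G)) :=
    (hUzc.trans (zc_le _)).trans (Cfsg.Agent.Omega.MinPar.o2_le_o2 T₀ (fun x hx => mem_cent.2 (hT₀ x hx)) hnM)
  have htM : t ∈ M := hnM (mem_cent.2 htn)
  have ht : ∀ u ∈ U, t * u * t⁻¹ = u ∨ t * u * t⁻¹ = nn p * u := fun u hu => htQ u (hUQ hu)
  have ht1 : t * p 1 * t⁻¹ = p 0 := by
    have e : p 1 = nn p * p 0 := by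
      rw [nn, h.comm 0 1, mul_assoc, h.sq, mul_one]
    rw [e, cm, htn, ht0, nn, mul_assoc, h.sq, mul_one]
  -- the functionals
  let F : G → Set (Set G) := fun x => {D | D ⊆ (U : Set G) ∧ ∃ g ∈ M, ∀ u ∈ U, (u ∈ D → g * u * g⁻¹ = x * u) ∧
    (u ∉ D → g * u * g⁻¹ = u)}
  have hF : ∀ x D, D ∈ F x ↔ D ⊆ (U : Set G) ∧ ∃ g ∈ M, ∀ u ∈ U, (u ∈ D → g * u * g⁻¹ = x * u) ∧
    (u ∉ D → g * u * g⁻¹ = u) := fun x D => Iff.rfl
  -- conjugation
  have hconj : ∀ m ∈ M, ∀ x D, D ∈ F x → (fun v => m * v * m⁻¹) '' D ∈ F (m * x * m⁻¹) := by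
    rintro m hm x D ⟨h1, g, hg, h2⟩
    refine ⟨?_, m * g * m⁻¹, mul_mem (mul_mem hm hg) (inv_mem hm), fun u hu => ?_⟩
    · rintro _ ⟨v, hv, rfl⟩
      exact hMU m hm v (h1 hv)
    · have hu' : m⁻¹ * u * m ∈ U := by
        have := hMU m⁻¹ (inv_mem hm) u hu
        rwa [inv_inv] at this
      have e : m * (m⁻¹ * u * m) * m⁻¹ = u := by group
      have h3 := h2 _ hu'
      constructor
      · rintro ⟨v, hv, rfl⟩
        have e2 : m⁻¹ * (m * v * m⁻¹) * m = v := by group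
        change m * g * m⁻¹ * (m * v * m⁻¹) * (m * g * m⁻¹)⁻¹ = m * x * m⁻¹ * (m * v * m⁻¹)
        rw [show m * g * m⁻¹ * (m * v * m⁻¹) * (m * g * m⁻¹)⁻¹ = m * (g * v * g⁻¹) * m⁻¹ by group,
          (h2 v (h1 hv)).1 hv]
        group
      · intro hn
        have h4 : m⁻¹ * u * m ∉ D := fun h5 => hn ⟨_, h5, e⟩
        calc m * g * m⁻¹ * u * (m * g * m⁻¹)⁻¹ = m * (g * (m⁻¹ * u * m) * g⁻¹) * m⁻¹ := by group
          _ = u := by rw [h3.2 h4, e]
  have hcardle : ∀ m ∈ M, ∀ x, (F x).ncard ≤ (F (m * x * m⁻¹)).ncard := by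
    intro m hm x
    have hinj : Function.Injective (fun v : G => m * v * m⁻¹) := fun v w hvw => conj_inj hvw
    refine Set.ncard_le_ncard_of_injOn (fun D => (fun v => m * v * m⁻¹) '' D) (fun D hD => hconj m hm x D hD) ?_
      (Set.toFinite _)
    intro D _ D' _ hDD
    exact hinj.image_injective hDD
  have hcardeq : ∀ m ∈ M, ∀ x, (F (m * x * m⁻¹)).ncard = (F x).ncard := by
    intro m hm x
    refine le_antisymm ?_ (hcardle m hm x)
    have := hcardle m⁻¹ (inv_mem hm) (m * x * m⁻¹)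
    have e : m⁻¹ * (m * x * m⁻¹) * m⁻¹⁻¹ = x := by group
    rwa [e] at this
  -- (4a)
  have h4a : ∀ D ∈ F (p 4), ∀ i, p i ∉ D := by
    rintro D ⟨hDU, g, hg, hgD⟩ i hi
    have hgs : g * p 4 * g⁻¹ = p 4 := by
      by_cases h1 : p 4 ∈ D
      · exfalso
        have h2 := (hgD _ hsU).1 h1
        rw [h.sq] at h2
        refine h.ne 4 ?_
        calc p 4 = g⁻¹ * (g * p 4 * g⁻¹) * g := by group
          _ = 1 := by rw [h2]; group
      · exact (hgD _ hsU).2 h1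
    -- the group `K_s`
    let K : Subgroup G :=
      { carrier := {k | k * p 4 * k⁻¹ = p 4 ∧ ∀ u ∈ U, k * u * k⁻¹ = u ∨ k * u * k⁻¹ = p 4 * u}
        one_mem' := ⟨by group, fun u _ => Or.inl (by group)⟩
        mul_mem' := by
          rintro a b ⟨ha1, ha2⟩ ⟨hb1, hb2⟩
          refine ⟨by rw [← cc, hb1, ha1], fun u hu => ?_⟩
          rw [← cc]
          rcases hb2 u hu with h1 | h1 <;> rcases ha2 u hu with h2 | h2
          · left; rw [h1, h2]
          · right; rw [h1, h2]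
          · right; rw [h1, cm, ha1, h2]
          · left; rw [h1, cm, ha1, h2, ← mul_assoc, h.sq, one_mul]
        inv_mem' := by
          rintro a ⟨ha1, ha2⟩
          have e1 : a⁻¹ * p 4 * a⁻¹⁻¹ = p 4 := by
            calc a⁻¹ * p 4 * a⁻¹⁻¹ = a⁻¹ * (a * p 4 * a⁻¹) * a := by rw [ha1]; group
              _ = p 4 := by group
          refine ⟨e1, fun u hu => ?_⟩
          rcases ha2 u hu with h1 | h1
          · left
            calc a⁻¹ * u * a⁻¹⁻¹ = a⁻¹ * (a * u * a⁻¹) * a := by rw [h1]; group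
              _ = u := by group
          · right
            have h2 : u = p 4 * (a * u * a⁻¹) := by rw [h1, ← mul_assoc, h.sq, one_mul]
            calc a⁻¹ * u * a⁻¹⁻¹ = a⁻¹ * (p 4 * (a * u * a⁻¹)) * a⁻¹⁻¹ := by rw [← h2]
              _ = (a⁻¹ * p 4 * a⁻¹⁻¹) * u := by group
              _ = p 4 * u := by rw [e1] }
    have hK : ∀ k, k ∈ K ↔ k * p 4 * k⁻¹ = p 4 ∧ ∀ u ∈ U, k * u * k⁻¹ = u ∨ k * u * k⁻¹ = p 4 * u :=
      fun k => Iff.rfl
    have hCK : centralizer ({p 4} : Set G) ≤ normalizer (K : Set G) := by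
      have key : ∀ c ∈ centralizer ({p 4} : Set G), ∀ k ∈ K, c * k * c⁻¹ ∈ K := by
        intro c hc k hk
        have hc1 := mem_cent.1 hc
        have hc2 := mem_cent.1 (inv_mem hc)
        obtain ⟨k1, k2⟩ := (hK k).1 hk
        refine (hK _).2 ⟨?_, fun u hu => ?_⟩
        · rw [← cc, ← cc, hc2, k1, hc1]
        · have hu' := hMU c⁻¹ (inv_mem (hCB hc)) u hu
          rcases k2 _ hu' with h1 | h1
          · left; rw [← cc, ← cc, h1]; group
          · right; rw [← cc, ← cc, h1, cm, hc1]; group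
      intro c hc
      rw [mem_normalizer_iff]
      refine fun k => ⟨key c hc k, fun hk => ?_⟩
      have := key c⁻¹ (inv_mem hc) _ hk
      have e : c⁻¹ * (c * k * c⁻¹) * c⁻¹⁻¹ = k := by group
      rwa [e] at this
    have hCN : centralizer ({p 4} : Set G) ≤ normalizer (centralizer (U : Set G) : Set G) := by
      have key : ∀ c ∈ centralizer ({p 4} : Set G), ∀ k ∈ centralizer (U : Set G), c * k * c⁻¹ ∈ centralizer (U : Set G) := by
        intro c hc k hk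
        rw [mem_centralizer_iff] at hk ⊢
        intro u hu
        have hu' := hMU c⁻¹ (inv_mem (hCB hc)) u hu
        have h1 := hk _ hu'
        calc u * (c * k * c⁻¹) = c * (c⁻¹ * u * c⁻¹⁻¹ * k) * c⁻¹ := by group
          _ = c * (k * (c⁻¹ * u * c⁻¹⁻¹)) * c⁻¹ := by rw [h1]
          _ = c * k * c⁻¹ * u := by group
      intro c hc
      rw [mem_normalizer_iff]
      refine fun k => ⟨key c hc k, fun hk => ?_⟩
      have := key c⁻¹ (inv_mem hc) _ hk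
      have e : c⁻¹ * (c * k * c⁻¹) * c⁻¹⁻¹ = k := by group
      rwa [e] at this
    have hgK : g ∈ K := (hK g).2 ⟨hgs, fun u hu => by
      by_cases h1 : u ∈ D
      · exact Or.inr ((hgD u hu).1 h1)
      · exact Or.inl ((hgD u hu).2 h1)⟩
    obtain ⟨x, hx, hxg⟩ := exists_mul S (C := centralizer ({p 4} : Set G)) (N := centralizer (U : Set G)) (K := K)
      (fun x hx => mem_cent.2 (h.fix x hx)) hCN (fun k hk => mem_cent.2 ((hK k).1 hk).1) hCK (by
        intro k hk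
        obtain ⟨k1, k2⟩ := (hK k).1 hk
        rw [mem_centralizer_iff]
        intro u hu
        symm
        rw [← comm_iff, ← cc]
        rcases k2 u hu with h1 | h1
        · rw [h1, h1]
        · rw [h1, cm, k1, h1, ← mul_assoc, h.sq, one_mul]) g hgK
    -- `x` acts like `g`
    have hxu : ∀ u ∈ U, x * u * x⁻¹ = g * u * g⁻¹ := by
      intro u hu
      have h1 := mem_centralizer_iff.1 hxg u hu
      calc x * u * x⁻¹ = x * (u * (x⁻¹ * g)) * g⁻¹ := by group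
        _ = x * (x⁻¹ * g * u) * g⁻¹ := by rw [h1]
        _ = g * u * g⁻¹ := by group
    obtain ⟨σ, hσ⟩ := h.perm x (h.le hx)
    have h1 := (hgD _ (hpU i)).1 hi
    rw [← hxu _ (hpU i), hσ] at h1
    have h4i : (4 : Fin 5) ≠ i := by
      rintro rfl
      rw [h.sq] at h1
      exact h.ne _ h1
    exact h.mul_ne h4i _ h1.symm
  have h4a' : ∀ j, ∀ D ∈ F (p j), ∀ i, p i ∉ D := by
    intro j D hD i hi
    obtain ⟨m, hm, h1⟩ := h.full (Equiv.swap j 4)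
    have h2 := hconj m (hPM hm) _ D hD
    rw [h1, Equiv.swap_apply_left] at h2
    refine h4a _ h2 (Equiv.swap j 4 i) ⟨p i, hi, h1 i⟩
  -- (4b)
  have h4b : F (p 0) ⊆ F (nn p) := by
    intro D hD
    have hD' := h4a' 0 D hD
    obtain ⟨hDU, g, hg, hgD⟩ := hD
    have hgp : ∀ i, g * p i * g⁻¹ = p i := fun i => (hgD _ (hpU i)).2 (hD' i)
    have hgn : g * nn p * g⁻¹ = nn p := by rw [nn, cm, hgp, hgp]
    -- `D` is invariant under multiplication by `n`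
    have hDn : ∀ u ∈ U, nn p * u ∈ D ↔ u ∈ D := by
      intro u hu
      have hnu : nn p * u ∈ U := mul_mem hnU hu
      have e1 : g * (nn p * u) * g⁻¹ = nn p * (g * u * g⁻¹) := by rw [cm, hgn]
      constructor
      · intro h1
        by_contra h2
        have h3 := (hgD _ hnu).1 h1
        rw [e1, (hgD _ hu).2 h2] at h3
        exact h.ne 0 (mul_eq_right.mp h3.symm)
      · intro h1
        by_contra h2
        have h3 := (hgD _ hnu).2 h2
        rw [e1, (hgD _ hu).1 h1] at h3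
        have h4 := mul_left_cancel h3
        exact h.ne 0 (mul_eq_right.mp h4)
    have htD : ∀ u ∈ U, t⁻¹ * u * t ∈ U ∧ (t⁻¹ * u * t ∈ D ↔ u ∈ D) := by
      intro u hu
      have hu' : t⁻¹ * u * t ∈ U := by
        have := hMU t⁻¹ (inv_mem htM) u hu
        rwa [inv_inv] at this
      refine ⟨hu', ?_⟩
      have e : t * (t⁻¹ * u * t) * t⁻¹ = u := by group
      rcases ht _ hu' with h1 | h1
      · rw [← h1, e]
      · rw [← hDn _ hu', ← h1, e]
    refine ⟨hDU, t * g * t⁻¹ * g, mul_mem (mul_mem (mul_mem htM hg) (inv_mem htM)) hg, fun u hu => ?_⟩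
    obtain ⟨hw, hwD⟩ := htD u hu
    have e0 : t * (t⁻¹ * u * t) * t⁻¹ = u := by group
    have e1 : t⁻¹ * p 0 * t = p 1 := by
      rw [← ht1]; group
    constructor
    · intro h1
      have h2 := (hgD u hu).1 h1
      have h3 := (hgD _ hw).1 (hwD.2 h1)
      calc t * g * t⁻¹ * g * u * (t * g * t⁻¹ * g)⁻¹ = t * (g * (t⁻¹ * (g * u * g⁻¹) * t) * g⁻¹) * t⁻¹ := by group
        _ = t * (g * (t⁻¹ * p 0 * t * (t⁻¹ * u * t)) * g⁻¹) * t⁻¹ := by rw [h2]; group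
        _ = t * (p 1 * (p 0 * (t⁻¹ * u * t))) * t⁻¹ := by rw [e1, cm g (p 1), hgp, h3]
        _ = (t * (p 1) * t⁻¹) * (t * p 0 * t⁻¹) * (t * (t⁻¹ * u * t) * t⁻¹) := by group
        _ = nn p * u := by rw [ht1, ht0, e0]
    · intro h1
      have h2 := (hgD u hu).2 h1
      have h3 := (hgD _ hw).2 (fun h4 => h1 (hwD.1 h4))
      calc t * g * t⁻¹ * g * u * (t * g * t⁻¹ * g)⁻¹ = t * (g * (t⁻¹ * (g * u * g⁻¹) * t) * g⁻¹) * t⁻¹ := by group
        _ = u := by rw [h2, h3, e0]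
  -- the same size
  have hcard : (F (nn p)).ncard = (F (p 0)).ncard := by
    obtain ⟨m, hm, h1⟩ := h.full (Equiv.swap 4 0)
    have h2 := hcardeq m (hPM hm) (p 4)
    rw [h1, Equiv.swap_apply_left] at h2
    have h3 := hcardeq y hyM (p 4)
    rw [hyn] at h3
    rw [h2, h3]
  have heq : F (p 0) = F (nn p) := Set.eq_of_subset_of_ncard_le h4b hcard.le (Set.toFinite _)
  -- the functional of `t`
  have htF : {u : G | u ∈ U ∧ t * u * t⁻¹ ≠ u} ∈ F (nn p) := by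
    refine ⟨fun u hu => hu.1, t, htM, fun u hu => ⟨fun h1 => (ht u hu).resolve_left h1.2, fun h1 => ?_⟩⟩
    by_contra h2
    exact h1 ⟨hu, h2⟩
  rw [← heq] at htF
  refine h4a' 0 _ htF 0 ⟨hpU 0, ?_⟩
  rw [ht0]
  intro h1
  exact absurd (h.inj h1) (by decide)

end Cfsg.Agent.Omega.NTwo
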