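import Cfsg.Agent.Omega.NTwo.Nat

/-!
# Exit N2: mutual pairs of type T-T with 2-central `n` (text bb OMEGA 12859, helper690; HALF LEMMA, helper7)

Two modules `V = V_P`, `V' = (V_{P₂})^x` of type `S₅`, `P₂ ≠ P` allowed.
-/

set_option autoImplicit false

namespace Cfsg.Agent.Omega.NTwo

open Subgroup Cfsg Cfsg.Agent.ZN Cfsg.Agent.MinSimple.VModule Pointwise
open Cfsg.Agent.MinSimple.MinParabolic Cfsg.Agent.MinSimple.Basic
open Cfsg.Agent.Omega.Half (exists_sylow_le)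
open Cfsg.Agent.Omega.MinPar (IsPar IsParS IsLoc NonLoc isLoc_of_le_normalizer)
open scoped commutatorElement

universe u

variable {G : Type u} [Group G]

/-- the group `{1, a, b, ab}` -/
def kl (a b : G) (ha : a * a = 1) (hb : b * b = 1) (hab : a * b = b * a) : Subgroup G where
  carrier := {x | x = 1 ∨ x = a ∨ x = b ∨ x = a * b}
  one_mem' := Or.inl rfl
  mul_mem' := by
    have h1 : a * (a * b) = b := by rw [← mul_assoc, ha, one_mul]
    have h2 : b * (a * b) = a := by rw [hab, ← mul_assoc, hb, one_mul]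
    have h3 : a * b * a = b := by rw [hab, mul_assoc, ha, mul_one]
    have h4 : a * b * b = a := by rw [mul_assoc, hb, mul_one]
    have h5 : a * b * (a * b) = 1 := by rw [mul_assoc, h2, ha]
    rintro x y (rfl | rfl | rfl | rfl) (rfl | rfl | rfl | rfl) <;>
      simp only [Set.mem_ofPred_eq, one_mul, mul_one, ha, hb, h1, h2, h3, h4, h5, ← hab, true_or, or_true]
  inv_mem' := by
    have ha' : a⁻¹ = a := inv_eq_of_mul_eq_one_left ha
    have hb' : b⁻¹ = b := inv_eq_of_mul_eq_one_left hb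
    rintro x (rfl | rfl | rfl | rfl)
    · left; exact inv_one
    · right; left; exact ha'
    · right; right; left; exact hb'
    · right; right; right
      rw [mul_inv_rev, ha', hb', hab]

theorem mem_kl {a b : G} {ha : a * a = 1} {hb : b * b = 1} {hab : a * b = b * a} {x : G} :
    x ∈ kl a b ha hb hab ↔ x = 1 ∨ x = a ∨ x = b ∨ x = a * b := Iff.rfl

section

variable [Finite G] (hG : IsCharacteristicTwoType G) (S : Sylow 2 G) {P : Subgroup G} {p : Fin 5 → G}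
  (h : Std (S : Subgroup G) P p)
include hG h

/-- **HALF LEMMA for `S₅`.** -/
theorem half_five : ∀ q ∈ o2 (centralizer ({nn p} : Set G)), q * (p 2 * p 3) * q⁻¹ = p 2 * p 3 ∧
    q * (p 3 * p 4) * q⁻¹ = p 3 * p 4 := by
  have hp2 : Fact (Nat.Prime 2) := ⟨Nat.prime_two⟩
  have ha : (p 2 * p 3) * (p 2 * p 3) = 1 := h.asq
  have hb : (p 3 * p 4) * (p 3 * p 4) = 1 := by
    rw [mul_assoc, ← mul_assoc (p 4), h.comm 4 3, mul_assoc (p 3), h.sq, mul_one, h.sq]
  have habe : (p 2 * p 3) * (p 3 * p 4) = p 2 * p 4 := by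
    rw [mul_assoc, ← mul_assoc (p 3), h.sq, one_mul]
  have hab : (p 2 * p 3) * (p 3 * p 4) = (p 3 * p 4) * (p 2 * p 3) := by
    rw [habe, h.comm 3 4, h.comm 2 3, mul_assoc, ← mul_assoc (p 3), h.sq, one_mul, h.comm]
  obtain ⟨V, hV⟩ : ∃ V : Subgroup G, V = kl _ _ ha hb hab := ⟨_, rfl⟩
  have hVm : ∀ x, x ∈ V ↔ x = 1 ∨ x = p 2 * p 3 ∨ x = p 3 * p 4 ∨ x = p 2 * p 4 := by
    intro x
    rw [hV, mem_kl, habe]
  obtain ⟨L, hL⟩ : ∃ L : Subgroup G, L = P ⊓ centralizer ({nn p} : Set G) := ⟨_, rfl⟩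
  have hLm : ∀ g, g ∈ L ↔ g ∈ P ∧ g * nn p * g⁻¹ = nn p := fun g => by rw [hL, mem_inf, mem_cent]
  have hTL : Std.T (S : Subgroup G) p ≤ L := fun x hx => by
    obtain ⟨h1, h2⟩ := Std.mem_T.1 hx
    exact (hLm x).2 ⟨h.le h1, h2⟩
  have hVcomm : ∀ a ∈ V, ∀ b ∈ V, a * b = b * a := by
    have key : ∀ i j k l : Fin 5, (p i * p j) * (p k * p l) = (p k * p l) * (p i * p j) := by
      intro i j k l
      have h1 : ∀ m, p m * (p k * p l) = (p k * p l) * p m := fun m => by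
        rw [← mul_assoc, h.comm m k, mul_assoc, h.comm m l, mul_assoc]
      rw [mul_assoc, h1 j, ← mul_assoc, h1 i, mul_assoc]
    intro a ha b hb
    rw [hVm] at ha hb
    rcases ha with rfl | rfl | rfl | rfl <;> rcases hb with rfl | rfl | rfl | rfl <;>
      first | exact key _ _ _ _ | simp only [one_mul, mul_one]
  have hVsq : ∀ a ∈ V, a ^ 2 = 1 := by
    have key : ∀ i j : Fin 5, (p i * p j) * (p i * p j) = 1 := fun i j => by
      rw [mul_assoc, ← mul_assoc (p j), h.comm j i, mul_assoc (p i), h.sq, mul_one, h.sq]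
    intro a ha
    rw [hVm] at ha
    rw [sq]
    rcases ha with rfl | rfl | rfl | rfl
    · simp
    all_goals exact key _ _
  -- permutations of elements of `L`
  have hLperm : ∀ g ∈ L, ∃ σ : Equiv.Perm (Fin 5), (∀ i, g * p i * g⁻¹ = p (σ i)) ∧
      ((σ 0 = 0 ∧ σ 1 = 1) ∨ (σ 0 = 1 ∧ σ 1 = 0)) := by
    intro g hg
    obtain ⟨h1, h2⟩ := (hLm g).1 hg
    obtain ⟨σ, hσ⟩ := h.perm g h1
    refine ⟨σ, hσ, ?_⟩
    rw [cm, hσ, hσ] at h2
    exact h.pair_inj (fun e => absurd (σ.injective e) (by decide)) (by decide) h2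
  have hVpair : ∀ i j : Fin 5, i ≠ 0 → i ≠ 1 → j ≠ 0 → j ≠ 1 → p i * p j ∈ V := by
    have key : ∀ i : Fin 5, i ≠ 0 → i ≠ 1 → i = 2 ∨ i = 3 ∨ i = 4 := by decide
    intro i j hi0 hi1 hj0 hj1
    rw [hVm]
    rcases key i hi0 hi1 with rfl | rfl | rfl <;> rcases key j hj0 hj1 with rfl | rfl | rfl
    · left; exact h.sq _
    · right; left; rfl
    · right; right; right; rfl
    · right; left; exact h.comm _ _
    · left; exact h.sq _
    · right; right; left; rfl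
    · right; right; right; exact h.comm _ _
    · right; right; left; exact h.comm _ _
    · left; exact h.sq _
  have hLV : L ≤ normalizer (V : Set G) := by
    have key : ∀ g ∈ L, ∀ v ∈ V, g * v * g⁻¹ ∈ V := by
      intro g hg v hv
      obtain ⟨σ, hσ, h1⟩ := hLperm g hg
      have h2 : ∀ i : Fin 5, i ≠ 0 → i ≠ 1 → σ i ≠ 0 ∧ σ i ≠ 1 := by
        intro i hi0 hi1
        rcases h1 with ⟨e1, e2⟩ | ⟨e1, e2⟩
        · exact ⟨fun e => hi0 (σ.injective (e.trans e1.symm)), fun e => hi1 (σ.injective (e.trans e2.symm))⟩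
        · exact ⟨fun e => hi1 (σ.injective (e.trans e2.symm)), fun e => hi0 (σ.injective (e.trans e1.symm))⟩
      have h3 : ∀ i j : Fin 5, i ≠ 0 → i ≠ 1 → j ≠ 0 → j ≠ 1 → g * (p i * p j) * g⁻¹ ∈ V := by
        intro i j hi0 hi1 hj0 hj1
        rw [cm, hσ, hσ]
        exact hVpair _ _ (h2 i hi0 hi1).1 (h2 i hi0 hi1).2 (h2 j hj0 hj1).1 (h2 j hj0 hj1).2
      rcases (hVm v).1 hv with rfl | rfl | rfl | rfl
      · simp
      all_goals exact h3 _ _ (by decide) (by decide) (by decide) (by decide)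
    intro g hg
    rw [mem_normalizer_iff]
    refine fun v => ⟨key g hg v, fun hv => ?_⟩
    have := key g⁻¹ (inv_mem hg) _ hv
    have e : g⁻¹ * (g * v * g⁻¹) * g⁻¹⁻¹ = v := by group
    rwa [e] at this
  -- the 3-cycle `(2 3 4)`
  obtain ⟨c, hcP, hc⟩ := h.full (Equiv.swap (2 : Fin 5) 3 * Equiv.swap 3 4)
  have hc0 : c * p 0 * c⁻¹ = p 0 := hc 0
  have hc1 : c * p 1 * c⁻¹ = p 1 := hc 1
  have hc2 : c * p 2 * c⁻¹ = p 3 := hc 2
  have hc3 : c * p 3 * c⁻¹ = p 4 := hc 3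
  have hc4 : c * p 4 * c⁻¹ = p 2 := hc 4
  have hcL : c ∈ L := (hLm c).2 ⟨hcP, by rw [nn, cm, hc0, hc1]⟩
  have hca : c * (p 2 * p 3) * c⁻¹ = p 3 * p 4 := by rw [cm, hc2, hc3]
  have hcb : c * (p 3 * p 4) * c⁻¹ = p 2 * p 4 := by rw [cm, hc3, hc4, h.comm]
  have hcab : c * (p 2 * p 4) * c⁻¹ = p 2 * p 3 := by rw [cm, hc2, hc4, h.comm]
  -- `T` is a Sylow subgroup of `L`
  have hSyl : ¬ 2 ∣ (Std.T (S : Subgroup G) p).relIndex L := by
    intro hdvd
    obtain ⟨R, hTR, hRL, hR2, hRS⟩ := exists_sylow_le (S.isPGroup'.to_le (Std.T_le (S := (S : Subgroup G)) (p := p))) hTL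
    obtain ⟨g, hg, hRg, -⟩ := exists_conj_le' S h.le hR2 (fun x hx => ((hLm x).1 (hRL hx)).1)
    have hne : R ≠ Std.T (S : Subgroup G) p := by
      rintro rfl
      exact hRS hdvd
    have hlt : Nat.card (Std.T (S : Subgroup G) p) < Nat.card R := by
      rcases lt_or_eq_of_le (card_le_of_le hTR) with h1 | h1
      · exact h1
      · exact absurd (eq_of_le_of_card_ge hTR h1.ge).symm hne
    have hdiv : Nat.card (Std.T (S : Subgroup G) p) ∣ Nat.card R := card_dvd_of_le hTR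
    have hge : 2 * Nat.card (Std.T (S : Subgroup G) p) ≤ Nat.card R := by
      obtain ⟨k, hk⟩ := hdiv
      have hpos : 0 < Nat.card (Std.T (S : Subgroup G) p) := Nat.card_pos
      have hk2 : 2 ≤ k := by
        by_contra hk2
        have : k = 0 ∨ k = 1 := by omega
        rcases this with rfl | rfl <;> simp at hk <;> omega
      rw [hk, mul_comm]
      exact Nat.mul_le_mul_left _ hk2
    have hcS : Nat.card ((g • S : Sylow 2 G) : Subgroup G) = Nat.card (S : Subgroup G) :=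
      Nat.card_congr (Sylow.equiv (g • S) S).toEquiv
    have hReq : R = ((g • S : Sylow 2 G) : Subgroup G) :=
      eq_of_le_of_card_ge hRg (by rw [hcS, h.card_S]; exact hge)
    -- `S` centralises `g⁻¹ n g`
    obtain ⟨σ, hσ⟩ := h.perm g⁻¹ (inv_mem hg)
    have h1 : g⁻¹ * nn p * g⁻¹⁻¹ = p (σ 0) * p (σ 1) := by rw [nn, cm, hσ, hσ]
    have hσ01 : σ 0 ≠ σ 1 := fun e => absurd (σ.injective e) (by decide)
    have h2 : p (σ 0) * p (σ 1) ∈ zc (S : Subgroup G) := by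
      refine mem_zc.2 ⟨mul_mem (h.mem _) (h.mem _), fun b hb => ?_, ?_⟩
      · rw [← comm_iff, ← h1]
        have h3 : g * b * g⁻¹ ∈ R := by
          rw [hReq, mem_smul]
          have e : g⁻¹ * (g * b * g⁻¹) * g = b := by group
          rwa [e]
        have h4 := ((hLm _).1 (hRL h3)).2
        calc b * (g⁻¹ * nn p * g⁻¹⁻¹) * b⁻¹ = g⁻¹ * ((g * b * g⁻¹) * nn p * (g * b * g⁻¹)⁻¹) * g⁻¹⁻¹ := by group
          _ = g⁻¹ * nn p * g⁻¹⁻¹ := by rw [h4]
      · rw [sq, mul_assoc, ← mul_assoc (p (σ 1)), h.comm (σ 1) (σ 0), mul_assoc (p (σ 0)), h.sq, mul_one, h.sq]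
    rcases h.zc4 _ h2 with h3 | h3
    · exact h.mul_ne_one hσ01 h3
    · exact h.mul_ne hσ01 4 h3
  have hO : o2 L ≤ centralizer (V : Set G) := by
    intro g hg
    have hgT := o2_le_of_sylow (S.isPGroup'.to_le (Std.T_le (S := (S : Subgroup G)) (p := p))) hSyl hg
    have hgL := hTL hgT
    obtain ⟨σ, hσ, h1⟩ := hLperm g hgL
    have h4 : σ 4 = 4 := by
      have := h.fix g (Std.T_le hgT)
      rw [hσ] at this
      exact h.inj this
    have h3 : σ 3 = 3 := by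
      have h5 : c * g * c⁻¹ ∈ o2 L := (mem_normalizer_iff.1 (le_normalizer_o2 L hcL) g).1 hg
      have h6 := o2_le_of_sylow (S.isPGroup'.to_le (Std.T_le (S := (S : Subgroup G)) (p := p))) hSyl h5
      have h7 := h.fix _ (Std.T_le h6)
      have h8 : c * g * c⁻¹ * p 4 * (c * g * c⁻¹)⁻¹ = c * p (σ 3) * c⁻¹ := by
        rw [← hσ, ← hc3]; group
      rw [h8, ← hc3] at h7
      exact h.inj (conj_inj h7)
    have h2 : σ 2 = 2 := by
      have : ∀ σ : Equiv.Perm (Fin 5), ((σ 0 = 0 ∧ σ 1 = 1) ∨ (σ 0 = 1 ∧ σ 1 = 0)) → σ 4 = 4 → σ 3 = 3 → σ 2 = 2 := by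
        decide +kernel
      exact this σ h1 h4 h3
    rw [mem_centralizer_iff]
    intro v hv
    symm
    rw [← comm_iff]
    rcases (hVm v).1 hv with rfl | rfl | rfl | rfl
    · simp
    · rw [cm, hσ, hσ, h2, h3]
    · rw [cm, hσ, hσ, h3, h4]
    · rw [cm, hσ, hσ, h2, h4]
  have hnt : V ⊓ centralizer (L : Set G) = ⊥ := by
    rw [eq_bot_iff]
    rintro v ⟨hv, hvL⟩
    rw [mem_bot]
    have h1 : c * v * c⁻¹ = v := comm_iff.2 (mem_centralizer_iff.1 hvL c hcL)
    rcases (hVm v).1 hv with rfl | rfl | rfl | rfl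
    · rfl
    · rw [hca] at h1
      rcases h.pair_inj (by decide) (by decide) h1 with ⟨e, e'⟩ | ⟨e, e'⟩ <;> exfalso <;> revert e e' <;> decide
    · rw [hcb] at h1
      rcases h.pair_inj (by decide) (by decide) h1 with ⟨e, e'⟩ | ⟨e, e'⟩ <;> exfalso <;> revert e e' <;> decide
    · rw [hcab] at h1
      rcases h.pair_inj (by decide) (by decide) h1 with ⟨e, e'⟩ | ⟨e, e'⟩ <;> exfalso <;> revert e e' <;> decide
  have hirr : ∀ X : Subgroup G, X ≤ V → L ≤ normalizer (X : Set G) → X = ⊥ ∨ X = V := by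
    intro X hXV hXL
    by_cases hX : X = ⊥
    · exact Or.inl hX
    right
    refine le_antisymm hXV ?_
    obtain ⟨⟨x, hx⟩, hx1'⟩ := ne_bot_iff_exists_ne_one.1 hX
    have hx1 : x ≠ 1 := fun e => hx1' (Subtype.ext e)
    have hcX : ∀ y ∈ X, c * y * c⁻¹ ∈ X := fun y hy => (mem_normalizer_iff.1 (hXL hcL) y).1 hy
    have hall : p 2 * p 3 ∈ X ∧ p 3 * p 4 ∈ X ∧ p 2 * p 4 ∈ X := by
      rcases (hVm x).1 (hXV hx) with rfl | rfl | rfl | rfl
      · exact absurd rfl hx1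
      · have h1 := hcX _ hx
        rw [hca] at h1
        have h2 := hcX _ h1
        rw [hcb] at h2
        exact ⟨hx, h1, h2⟩
      · have h1 := hcX _ hx
        rw [hcb] at h1
        have h2 := hcX _ h1
        rw [hcab] at h2
        exact ⟨h2, hx, h1⟩
      · have h1 := hcX _ hx
        rw [hcab] at h1
        have h2 := hcX _ h1
        rw [hca] at h2
        exact ⟨h1, h2, hx⟩
    intro v hv
    rcases (hVm v).1 hv with rfl | rfl | rfl | rfl
    · exact one_mem _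
    · exact hall.1
    · exact hall.2.1
    · exact hall.2.2
  have hcard : Nat.card (zc (S : Subgroup G)) ≤
      Nat.card (V ⊓ centralizer ((Std.T (S : Subgroup G) p : Subgroup G) : Set G) : Subgroup G) := by
    classical
    have h1 : ((zc (S : Subgroup G) : Subgroup G) : Set G) ⊆ (({1, p 4} : Finset G) : Set G) := by
      intro x hx
      rcases h.zc4 x hx with rfl | rfl <;> simp
    have h2 := (Set.ncard_le_ncard h1 (Set.toFinite _)).trans ((Set.ncard_coe_finset _).le.trans Finset.card_le_two)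
    have h3 : (({1, p 2 * p 3} : Finset G) : Set G) ⊆
        ((V ⊓ centralizer ((Std.T (S : Subgroup G) p : Subgroup G) : Set G) : Subgroup G) : Set G) := by
      intro x hx
      simp only [Finset.coe_insert, Finset.coe_singleton, Set.mem_insert_iff, Set.mem_singleton_iff] at hx
      rcases hx with rfl | rfl
      · exact one_mem _
      · refine ⟨(hVm _).2 (Or.inr (Or.inl rfl)), mem_centralizer_iff.2 fun y hy => comm_iff.1 (h.T_a hy)⟩
    have h4 := Set.ncard_le_ncard h3 (Set.toFinite _)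
    rw [Set.ncard_coe_finset, Finset.card_insert_of_notMem, Finset.card_singleton] at h4
    · exact h2.trans h4
    · rw [Finset.mem_singleton]
      exact h.a_ne_one.symm
  have hH : centralizer ({nn p} : Set G) ⊓ centralizer (o2 (centralizer ({nn p} : Set G)) : Set G) ≤
      o2 (centralizer ({nn p} : Set G)) :=
    char2_centralizer hG (by rw [sq]; exact h.nsq) h.n_ne_one
  have hVT : V ≤ Std.T (S : Subgroup G) p := by
    have key : ∀ i j : Fin 5, p i * p j ∈ Std.T (S : Subgroup G) p := by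
      intro i j
      refine Std.mem_T.2 ⟨mul_mem (h.mem i) (h.mem j), ?_⟩
      have h1 : ∀ m, p m * nn p = nn p * p m := fun m => by
        rw [nn, ← mul_assoc, h.comm m 0, mul_assoc, h.comm m 1, mul_assoc]
      rw [comm_iff, mul_assoc, h1 j, ← mul_assoc, h1 i, mul_assoc]
    intro v hv
    rcases (hVm v).1 hv with rfl | rfl | rfl | rfl
    · exact one_mem _
    all_goals exact key _ _
  have hfin := Half.half S (So := Std.T (S : Subgroup G) p) (L := L) (H := centralizer ({nn p} : Set G)) (V := V)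
    (z := nn p) Std.T_le h.card_S h.n_ne_one (by rw [sq]; exact h.nsq) (Std.mem_T.2 ⟨h.n_mem, by group⟩)
    (fun x hx => comm_iff.1 (mem_cent.1 hx)) hH hTL (fun x hx => mem_cent.2 ((hLm x).1 hx).2) hSyl hVT hLV hVcomm hVsq
    hirr hnt hO hcard
  intro q hq
  have h1 := mem_centralizer_iff.1 (hfin.2 hq)
  exact ⟨comm_iff.2 (h1 _ ((hVm _).2 (Or.inr (Or.inl rfl)))).symm,
    comm_iff.2 (h1 _ ((hVm _).2 (Or.inr (Or.inr (Or.inl rfl))))).symm⟩

/-- `O₂(C(n))` acts on `V` through `⟨(0 1)⟩`, `n` 2-central. -/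
theorem act_five (T₀ : Sylow 2 G) (hT₀ : ∀ x ∈ (T₀ : Subgroup G), x * nn p * x⁻¹ = nn p) :
    ∀ q ∈ o2 (centralizer ({nn p} : Set G)), ∀ v ∈ closure (Set.range p), q * v * q⁻¹ = v ∨ q * v * q⁻¹ = nn p * v := by
  have hp2 : Fact (Nat.Prime 2) := ⟨Nat.prime_two⟩
  intro q hq
  obtain ⟨hqa, hqb⟩ := half_five hG S h q hq
  have hqn : q * nn p * q⁻¹ = nn p := mem_cent.1 (o2_le _ hq)
  have hq4 : q * p 4 * q⁻¹ = p 4 := by
    rw [← h.na, cm, hqn]
    change nn p * (q * (p 2 * p 3) * q⁻¹) = _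
    rw [hqa]
  have hTn : Std.T (S : Subgroup G) p ≤ centralizer ({nn p} : Set G) := inf_le_right
  have hT2 : IsPGroup 2 (Std.T (S : Subgroup G) p) := S.isPGroup'.to_le Std.T_le
  obtain ⟨T₁, hTT₁, hT₁⟩ := exists_conj_le T₀ (fun x hx => mem_cent.2 (hT₀ x hx)) hT2 hTn
  have hqT₁ : q ∈ (T₁ : Subgroup G) := o2_le_of_sylow T₁.isPGroup' (not_dvd_relIndex T₁ hT₁) hq
  -- `q ∈ T`
  have hqT : q ∈ Std.T (S : Subgroup G) p := by
    by_contra hqT
    refine not_cent S h T₁ hTT₁ hT₁ fun x hx => ?_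
    by_cases hxT : x ∈ Std.T (S : Subgroup G) p
    · exact h.fix x (Std.T_le hxT)
    · have hcard : Nat.card (T₁ : Subgroup G) = 2 * Nat.card (Std.T (S : Subgroup G) p) := by
        rw [← h.card_S]
        exact Nat.card_congr (Sylow.equiv T₁ S).toEquiv
      have e : Nat.card ((Std.T (S : Subgroup G) p).subgroupOf (T₁ : Subgroup G)) = Nat.card (Std.T (S : Subgroup G) p) :=
        Nat.card_congr (subgroupOfEquivOfLe hTT₁).toEquiv
      have h1 := card_mul_index ((Std.T (S : Subgroup G) p).subgroupOf (T₁ : Subgroup G))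
      rw [e, hcard] at h1
      have h2 : ((Std.T (S : Subgroup G) p).subgroupOf (T₁ : Subgroup G)).index = 2 := by
        have h3 : 0 < Nat.card (Std.T (S : Subgroup G) p) := Nat.card_pos
        rw [mul_comm] at h1
        exact Nat.eq_of_mul_eq_mul_right h3 h1
      have h3 := mul_mem_iff_of_index_two h2 (a := (⟨q, hqT₁⟩ : (T₁ : Subgroup G))⁻¹) (b := ⟨x, hx⟩)
      rw [inv_mem_iff] at h3
      have h4 := h3.mpr (iff_of_false (fun h => hqT (mem_subgroupOf.mp h)) (fun h => hxT (mem_subgroupOf.mp h)))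
      have h5 : q⁻¹ * x ∈ Std.T (S : Subgroup G) p := mem_subgroupOf.mp h4
      have h6 := h.fix _ (Std.T_le h5)
      calc x * p 4 * x⁻¹ = q * ((q⁻¹ * x) * p 4 * (q⁻¹ * x)⁻¹) * q⁻¹ := by group
        _ = p 4 := by rw [h6, hq4]
  obtain ⟨σ, hσ⟩ := h.perm q (h.le (Std.T_le hqT))
  have h4 : σ 4 = 4 := by rw [hσ] at hq4; exact h.inj hq4
  have h3 : σ 3 = 3 := by
    rw [cm, hσ, hσ, h4] at hqb
    exact h.inj (mul_right_cancel hqb)
  have h2 : σ 2 = 2 := by
    rw [cm, hσ, hσ, h3] at hqa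
    exact h.inj (mul_right_cancel hqa)
  have h01 : (σ 0 = 0 ∧ σ 1 = 1) ∨ (σ 0 = 1 ∧ σ 1 = 0) := by
    rw [nn, cm, hσ, hσ] at hqn
    exact h.pair_inj (fun e => absurd (σ.injective e) (by decide)) (by decide) hqn
  have hgen : ∀ i, q * p i * q⁻¹ = p i ∨ q * p i * q⁻¹ = nn p * p i := by
    have e0 : nn p * p 0 = p 1 := by rw [nn, h.comm 0 1, mul_assoc, h.sq, mul_one]
    have e1 : nn p * p 1 = p 0 := by rw [nn, mul_assoc, h.sq, mul_one]
    have key : ∀ i : Fin 5, i = 0 ∨ i = 1 ∨ i = 2 ∨ i = 3 ∨ i = 4 := by decide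
    intro i
    rcases key i with rfl | rfl | rfl | rfl | rfl
    · rcases h01 with ⟨k0, k1⟩ | ⟨k0, k1⟩
      · left; rw [hσ, k0]
      · right; rw [hσ, k0, e0]
    · rcases h01 with ⟨k0, k1⟩ | ⟨k0, k1⟩
      · left; rw [hσ, k1]
      · right; rw [hσ, k1, e1]
    · left; rw [hσ, h2]
    · left; rw [hσ, h3]
    · left; rw [hσ, h4]
  -- all of `V`
  have hnV : ∀ v ∈ closure (Set.range p), v * nn p = nn p * v := by
    intro v hv
    have h1 : closure (Set.range p) ≤ centralizer ({nn p} : Set G) := by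
      rw [closure_le]
      rintro _ ⟨i, rfl⟩
      rw [SetLike.mem_coe, mem_centralizer_singleton_iff, nn, ← mul_assoc, h.comm i 0, mul_assoc, h.comm i 1, mul_assoc]
    exact mem_centralizer_singleton_iff.1 (h1 hv)
  intro v hv
  induction hv using closure_induction with
  | mem x hx => obtain ⟨i, rfl⟩ := hx; exact hgen i
  | one => left; group
  | mul x y hx hy ihx ihy =>
    rw [cm]
    rcases ihx with k1 | k1 <;> rcases ihy with k2 | k2
    · left; rw [k1, k2]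
    · right; rw [k1, k2, ← mul_assoc, hnV x hx, mul_assoc]
    · right; rw [k1, k2, mul_assoc]
    · left
      rw [k1, k2, mul_assoc, ← mul_assoc x, hnV x hx, mul_assoc (nn p), ← mul_assoc (nn p) (nn p), h.nsq, one_mul]
  | inv x hx ih =>
    rcases ih with k1 | k1
    · left
      calc q * x⁻¹ * q⁻¹ = (q * x * q⁻¹)⁻¹ := by group
        _ = x⁻¹ := by rw [k1]
    · right
      have hninv : (nn p)⁻¹ = nn p := inv_eq_of_mul_eq_one_left h.nsq
      have hx' := hnV x⁻¹ (inv_mem hx)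
      calc q * x⁻¹ * q⁻¹ = (q * x * q⁻¹)⁻¹ := by group
        _ = nn p * x⁻¹ := by rw [k1, mul_inv_rev, hninv, hx']

end

/-- **(F3), T-T with 2-central `n`**: `V = V_P`, `V' = (V_{P₂})^x` both of type `S₅`, `[V, V'] = ⟨n⟩`. -/
theorem exists_tw_tt [Finite G] (hG : IsCharacteristicTwoType G) (S : Sylow 2 G) {P P₂ : Subgroup G} {x : G}
    (h : Mutual (S : Subgroup G) P P₂ x) (hF : TypeFive (S : Subgroup G) P) (hF₂ : TypeFive (S : Subgroup G) P₂)
    {n : G} (hT : ∀ v ∈ zl (S : Subgroup G) P, ∀ w ∈ MulAut.conj x • zl (S : Subgroup G) P₂,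
      v * w * v⁻¹ = w ∨ v * w * v⁻¹ = n * w)
    (T₀ : Sylow 2 G) (hT₀ : ∀ y ∈ (T₀ : Subgroup G), y * n * y⁻¹ = n) : ∃ t, Tw (S : Subgroup G) P t n := by
  have hle : zl (S : Subgroup G) P ≤ zc (o2 P) := h.star₁.isLoc.zl_le S hG
  have hle₂ : zl (S : Subgroup G) P₂ ≤ zc (o2 P₂) := h.star₂.isLoc.zl_le S hG
  obtain ⟨E, hE⟩ : ∃ E, E = MulAut.conj x • zl (S : Subgroup G) P₂ := ⟨_, rfl⟩
  rw [← hE] at hT
  have hEc : ∀ a ∈ E, ∀ b ∈ E, a * b = b * a := by
    intro a ha b hb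
    rw [hE, mem_csmul] at ha hb
    have h1 := zc_comm _ _ (hle₂ ha) _ (hle₂ hb)
    calc a * b = x * ((x⁻¹ * a * x) * (x⁻¹ * b * x)) * x⁻¹ := by group
      _ = x * ((x⁻¹ * b * x) * (x⁻¹ * a * x)) * x⁻¹ := by rw [h1]
      _ = b * a := by group
  have hEs : ∀ a ∈ E, a * a = 1 := by
    intro a ha
    rw [hE, mem_csmul] at ha
    have h1 := zc_sq _ _ (hle₂ ha)
    rw [sq] at h1
    calc a * a = x * ((x⁻¹ * a * x) * (x⁻¹ * a * x)) * x⁻¹ := by group
      _ = 1 := by rw [h1]; group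
  have hVc : ∀ a ∈ zl (S : Subgroup G) P, ∀ b ∈ zl (S : Subgroup G) P, a * b = b * a := fun a ha b hb =>
    zc_comm _ _ (hle ha) _ (hle hb)
  have hVs : ∀ a ∈ zl (S : Subgroup G) P, a * a = 1 := fun a ha => by
    rw [← sq]; exact zc_sq _ _ (hle ha)
  have h1 : zl (S : Subgroup G) P ≤ normalizer (E : Set G) := hE ▸ h.le₁
  have h2 : E ≤ normalizer (zl (S : Subgroup G) P : Set G) := hE ▸ h.le₂
  obtain ⟨v0, hv0, w0, hw0, hvw⟩ : ∃ v ∈ zl (S : Subgroup G) P, ∃ w ∈ E, v * w * v⁻¹ ≠ w := by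
    by_contra hcon
    push Not at hcon
    apply h.ne
    rw [← hE, commutator_eq_bot_iff_le_centralizer]
    intro v hv
    rw [mem_centralizer_iff]
    intro t ht
    exact (comm_iff.1 (hcon v hv t ht)).symm
  have hn0 : v0 * w0 * v0⁻¹ = n * w0 := (hT v0 hv0 w0 hw0).resolve_left hvw
  have hn_eq : n = (v0 * w0 * v0⁻¹) * w0⁻¹ := by rw [hn0]; group
  have hnE : n ∈ E := hn_eq ▸ mul_mem ((mem_normalizer_iff.1 (h1 hv0) w0).1 hw0) (inv_mem hw0)
  have hnV : n ∈ zl (S : Subgroup G) P := by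
    have e : n = v0 * (w0 * v0⁻¹ * w0⁻¹) := by rw [hn_eq]; group
    rw [e]
    exact mul_mem hv0 ((mem_normalizer_iff.1 (h2 hw0) _).1 (inv_mem hv0))
  have hn1 : n ≠ 1 := fun e => hvw (by rw [hn0, e, one_mul])
  have hnn : n * n = 1 := hEs n hnE
  have hninv : n⁻¹ = n := inv_eq_of_mul_eq_one_left hnn
  -- a general commutator flip
  have flip : ∀ y w : G, y * w * y⁻¹ = w ∨ y * w * y⁻¹ = n * w → w * y * w⁻¹ = y ∨ w * y * w⁻¹ = n * y := by
    rintro y w (h5 | h5)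
    · left
      rw [comm_iff] at h5 ⊢
      exact h5.symm
    · right
      have h6 : y * w = n * w * y := by rw [← h5]; group
      have h7 : w * y = n * (y * w) := by rw [h6, ← mul_assoc, ← mul_assoc, hnn, one_mul]
      calc w * y * w⁻¹ = n * (y * w) * w⁻¹ := by rw [h7]
        _ = n * y := by group
  -- normal form on the side of `P₂`
  have hv2 : x⁻¹ * v0 * x ∈ normalizer (zl (S : Subgroup G) P₂ : Set G) := by
    have h3 := h1 hv0
    rw [mem_normalizer_iff] at h3 ⊢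
    intro y
    have h4 := h3 (x * y * x⁻¹)
    rw [hE, mem_csmul, mem_csmul] at h4
    have e1 : x⁻¹ * (x * y * x⁻¹) * x = y := by group
    have e2 : x⁻¹ * (v0 * (x * y * x⁻¹) * v0⁻¹) * x = x⁻¹ * v0 * x * y * (x⁻¹ * v0 * x)⁻¹ := by group
    rwa [e1, e2] at h4
  have hEx : ∀ w ∈ zl (S : Subgroup G) P₂, x * w * x⁻¹ ∈ E := fun w hw => hE ▸ csmul_mem hw
  obtain ⟨c, hc, p, hstd, hpV, -, hcn, -⟩ := reduce hG S h.star₂ hF₂ (t := x⁻¹ * v0 * x) (n := x⁻¹ * n * x) hv2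
    (isPGroup_zpowers (by
      rw [sq]
      calc x⁻¹ * v0 * x * (x⁻¹ * v0 * x) = x⁻¹ * (v0 * v0) * x := by group
        _ = 1 := by rw [hVs v0 hv0]; group)) (by
      intro w hw
      rcases hT v0 hv0 _ (hEx w hw) with h3 | h3
      · left
        calc x⁻¹ * v0 * x * w * (x⁻¹ * v0 * x)⁻¹ = x⁻¹ * (v0 * (x * w * x⁻¹) * v0⁻¹) * x := by group
          _ = w := by rw [h3]; group
      · right
        calc x⁻¹ * v0 * x * w * (x⁻¹ * v0 * x)⁻¹ = x⁻¹ * (v0 * (x * w * x⁻¹) * v0⁻¹) * x := by group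
          _ = x⁻¹ * n * x * w := by rw [h3]; group) ⟨x⁻¹ * w0 * x, by
            rw [hE, mem_csmul] at hw0; exact hw0, fun e => hvw (by
              calc v0 * w0 * v0⁻¹ = x * (x⁻¹ * v0 * x * (x⁻¹ * w0 * x) * (x⁻¹ * v0 * x)⁻¹) * x⁻¹ := by group
                _ = w0 := by rw [e]; group)⟩
  -- `k = c x⁻¹` maps `n` to `nn p`
  obtain ⟨k, hk⟩ : ∃ k, k = c * x⁻¹ := ⟨_, rfl⟩
  have hkn : k * n * k⁻¹ = nn p := by rw [← hcn, hk]; group
  have hkE : ∀ w ∈ E, k * w * k⁻¹ ∈ closure (Set.range p) := by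
    intro w hw
    rw [← hpV, hk]
    rw [hE, mem_csmul] at hw
    have h3 := (mem_normalizer_iff.1 hc _).1 hw
    have e : c * (x⁻¹ * w * x) * c⁻¹ = c * x⁻¹ * w * (c * x⁻¹)⁻¹ := by group
    rwa [e] at h3
  have hkT : ∀ y ∈ ((k • T₀ : Sylow 2 G) : Subgroup G), y * nn p * y⁻¹ = nn p := by
    intro y hy
    have h3 := hT₀ _ (mem_smul.1 hy)
    calc y * nn p * y⁻¹ = k * ((k⁻¹ * y * k) * n * (k⁻¹ * y * k)⁻¹) * k⁻¹ := by rw [← hkn]; group
      _ = nn p := by rw [h3, hkn]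
  have hact := act_five hG S hstd (k • T₀) hkT
  have hQ : ∀ q ∈ o2 (centralizer ({n} : Set G)), ∀ w ∈ E, q * w * q⁻¹ = w ∨ q * w * q⁻¹ = n * w := by
    intro q hq w hw
    have h3 : k * q * k⁻¹ ∈ o2 (centralizer ({nn p} : Set G)) := by
      have e1 : (o2 (centralizer ({n} : Set G))).map (MulAut.conj k).toMonoidHom =
          o2 ((centralizer ({n} : Set G)).map (MulAut.conj k).toMonoidHom) :=
        (MinPar.o2_map_equiv (MulAut.conj k) _).symm
      have e2 : (centralizer ({n} : Set G)).map (MulAut.conj k).toMonoidHom = centralizer ({nn p} : Set G) := by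
        ext y
        rw [mem_map_equiv, mem_cent, mem_cent]
        have : (MulAut.conj k).symm y = k⁻¹ * y * k := by
          rw [MulAut.conj_symm_apply]
        rw [this, ← hkn]
        constructor
        · intro h1
          calc y * (k * n * k⁻¹) * y⁻¹ = k * ((k⁻¹ * y * k) * n * (k⁻¹ * y * k)⁻¹) * k⁻¹ := by group
            _ = k * n * k⁻¹ := by rw [h1]
        · intro h1
          calc (k⁻¹ * y * k) * n * (k⁻¹ * y * k)⁻¹ = k⁻¹ * (y * (k * n * k⁻¹) * y⁻¹) * k := by group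
            _ = n := by rw [h1]; group
      rw [← e2, ← e1]
      exact ⟨q, hq, rfl⟩
    rcases hact _ h3 _ (hkE w hw) with h4 | h4
    · left
      calc q * w * q⁻¹ = k⁻¹ * (k * q * k⁻¹ * (k * w * k⁻¹) * (k * q * k⁻¹)⁻¹) * k := by group
        _ = w := by rw [h4]; group
    · right
      calc q * w * q⁻¹ = k⁻¹ * (k * q * k⁻¹ * (k * w * k⁻¹) * (k * q * k⁻¹)⁻¹) * k := by group
        _ = k⁻¹ * (k * n * k⁻¹ * (k * w * k⁻¹)) * k := by rw [h4, hkn]
        _ = n * w := by group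
  refine ⟨w0, h2 hw0, isPGroup_zpowers (by rw [sq]; exact hEs w0 hw0), ?_, ⟨v0, hv0, ?_⟩, ?_, ⟨T₀, hT₀⟩, ?_⟩
  · intro v hv
    exact flip v w0 (hT v hv w0 hw0)
  · intro e
    rw [comm_iff] at e
    exact hvw (comm_iff.2 e.symm)
  · rw [comm_iff]; exact hEc w0 hw0 n hnE
  · intro q hq
    exact flip q w0 (hQ q hq w0 hw0)

/-- **(F3), T-T with 2-central `n`**: `V = V_P`, `V' = (V_{P₂})^x` both of type `S₅`, `[V, V'] = ⟨n⟩`. -/
theorem exit_tt [Finite G] (hG : IsCharacteristicTwoType G) (S : Sylow 2 G) {P P₂ : Subgroup G} {x : G}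
    (h : Mutual (S : Subgroup G) P P₂ x) (hF : TypeFive (S : Subgroup G) P) (hF₂ : TypeFive (S : Subgroup G) P₂)
    {n : G} (hT : ∀ v ∈ zl (S : Subgroup G) P, ∀ w ∈ MulAut.conj x • zl (S : Subgroup G) P₂,
      v * w * v⁻¹ = w ∨ v * w * v⁻¹ = n * w)
    (T₀ : Sylow 2 G) (hT₀ : ∀ y ∈ (T₀ : Subgroup G), y * n * y⁻¹ = n) : Exit (S : Subgroup G) := by
  obtain ⟨t, ht⟩ := exists_tw_tt hG S h hF hF₂ hT T₀ hT₀
  exact ht.exit hG S h.star₁ hF

end Cfsg.Agent.Omega.NTwo
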