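import Cfsg.Agent.Omega.NTwo.Exit

/-!
# Exit N2: natural `SL₂(2)` against a transposition of `S₅` (text bb OMEGA 12859, helper690)
-/

set_option autoImplicit false

namespace Cfsg.Agent.Omega.NTwo

open Subgroup Cfsg Cfsg.Agent.ZN Cfsg.Agent.MinSimple.VModule Pointwise
open Cfsg.Agent.Omega.MinPar (IsPar IsParS IsLoc NonLoc isLoc_of_le_normalizer)
open scoped commutatorElement

universe u

variable {G : Type u} [Group G]

theorem mem_csmul {g x : G} {H : Subgroup G} : x ∈ MulAut.conj g • H ↔ g⁻¹ * x * g ∈ H := by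
  rw [mem_pointwise_smul_iff_inv_smul_mem]
  have : (MulAut.conj g)⁻¹ • x = g⁻¹ * x * g := by
    rw [← map_inv]
    change MulAut.conj g⁻¹ x = _
    rw [MulAut.conj_apply, inv_inv]
  rw [this]

theorem csmul_mem {g x : G} {H : Subgroup G} (hx : x ∈ H) : g * x * g⁻¹ ∈ MulAut.conj g • H := by
  rw [mem_csmul]
  have e : g⁻¹ * (g * x * g⁻¹) * g = x := by group
  rwa [e]

/-- a group of order 4 with three different known nontrivial elements -/
theorem mem_four [Finite G] {E : Subgroup G} (h4 : Nat.card E = 4) {a b c : G} (ha : a ∈ E) (hb : b ∈ E) (hc : c ∈ E)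
    (ha1 : a ≠ 1) (hb1 : b ≠ 1) (hc1 : c ≠ 1) (hab : a ≠ b) (hac : a ≠ c) (hbc : b ≠ c) {x : G} (hx : x ∈ E) :
    x = 1 ∨ x = a ∨ x = b ∨ x = c := by
  classical
  by_contra hcon
  simp only [not_or] at hcon
  obtain ⟨h1, h2, h3, h5⟩ := hcon
  have h6 : (({x, 1, a, b, c} : Finset G) : Set G) ⊆ (E : Set G) := by
    intro y hy
    simp only [Finset.coe_insert, Finset.coe_singleton, Set.mem_insert_iff, Set.mem_singleton_iff] at hy
    rcases hy with rfl | rfl | rfl | rfl | rfl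
    · exact hx
    · exact one_mem _
    · exact ha
    · exact hb
    · exact hc
  have h7 := Set.ncard_le_ncard h6 (Set.toFinite _)
  rw [Set.ncard_coe_finset, Finset.card_insert_of_notMem, Finset.card_insert_of_notMem,
    Finset.card_insert_of_notMem, Finset.card_insert_of_notMem, Finset.card_singleton] at h7
  · have h8 : (E : Set G).ncard = Nat.card E := rfl
    rw [h8, h4] at h7
    omega
  · simpa using hbc
  · simp [hab, hac]
  · simp [ha1.symm, hb1.symm, hc1.symm]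
  · simp [h1, h2, h3, h5]

/-- `P₂` is transitive on `V_{P₂}#` if `|V_{P₂}| = 4` and `|Ω₁Z(S)| = 2` -/
theorem exists_conj_eq [Finite G] (hG : IsCharacteristicTwoType G) (S : Sylow 2 G) {P₂ : Subgroup G}
    (hP : IsParS (S : Subgroup G) P₂) (h4 : Nat.card (zl (S : Subgroup G) P₂) = 4) {s : G}
    (hs : ∀ x ∈ zc (S : Subgroup G), x = 1 ∨ x = s) (hs1 : s ≠ 1) (hsz : s ∈ zc (S : Subgroup G))
    {w : G} (hw : w ∈ zl (S : Subgroup G) P₂) (hw1 : w ≠ 1) : ∃ g ∈ P₂, g * s * g⁻¹ = w := by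
  have hle : zl (S : Subgroup G) P₂ ≤ zc (o2 P₂) := hP.isLoc.zl_le S hG
  have hO : o2 P₂ ≤ (S : Subgroup G) := hP.isLoc.o2_le S
  have hVS : zl (S : Subgroup G) P₂ ≤ (S : Subgroup G) := (hle.trans (zc_le _)).trans hO
  have hsV : s ∈ zl (S : Subgroup G) P₂ := zc_le_zl _ _ hsz
  obtain ⟨g, hg, hgs⟩ : ∃ g ∈ P₂, g * s * g⁻¹ ≠ s := by
    by_contra hcon
    push Not at hcon
    refine hP.not_zc fun y hy => ?_
    rw [mem_normalizer_iff]
    intro x
    constructor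
    · intro hx
      rcases hs x hx with rfl | rfl
      · simp
      · rw [hcon y hy]; exact hx
    · intro hx
      rcases hs _ hx with h1 | h1
      · have : x = 1 := by
          calc x = y⁻¹ * (y * x * y⁻¹) * y := by group
            _ = 1 := by rw [h1]; group
        rw [this]; exact one_mem _
      · rw [← hcon y hy] at h1
        rw [conj_inj h1]; exact hsz
  have hNP : ∀ g ∈ P₂, ∀ v ∈ zl (S : Subgroup G) P₂, g * v * g⁻¹ ∈ zl (S : Subgroup G) P₂ := fun g hg v hv =>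
    (mem_normalizer_iff.1 (le_normalizer_zl _ _ hg) v).1 hv
  have hne : ∀ g v : G, v ≠ 1 → g * v * g⁻¹ ≠ 1 := fun g v hv e => hv (by
    calc v = g⁻¹ * (g * v * g⁻¹) * g := by group
      _ = 1 := by rw [e]; group)
  by_cases h1 : w = s
  · exact ⟨1, one_mem _, by rw [h1]; group⟩
  by_cases h2 : w = g * s * g⁻¹
  · exact ⟨g, hg, h2.symm⟩
  obtain ⟨w1, hw1'⟩ : ∃ w1, w1 = g * s * g⁻¹ := ⟨_, rfl⟩
  rw [← hw1'] at hgs h2
  have hw1V : w1 ∈ zl (S : Subgroup G) P₂ := hw1' ▸ hNP g hg s hsV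
  have hw11 : w1 ≠ 1 := hw1' ▸ hne g s hs1
  -- some `τ ∈ S` moves `w1`
  obtain ⟨τ, hτ, hτw⟩ : ∃ τ ∈ (S : Subgroup G), τ * w1 * τ⁻¹ ≠ w1 := by
    by_contra hcon
    push Not at hcon
    have h3 : w1 ∈ zc (S : Subgroup G) :=
      mem_zc.2 ⟨hVS hw1V, fun b hb => comm_iff.1 (hcon b hb), zc_sq _ _ (hle hw1V)⟩
    rcases hs _ h3 with h5 | h5
    · exact hw11 h5
    · exact hgs h5
  have h3 := hNP τ (hP.le hτ) w1 hw1V
  rcases mem_four h4 hsV hw1V hw hs1 hw11 hw1 hgs.symm (Ne.symm h1) (Ne.symm h2) h3 with h5 | h5 | h5 | h5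
  · exact absurd h5 (hne τ w1 hw11)
  · exfalso
    have h6 : τ * s * τ⁻¹ = s := comm_iff.2 ((mem_zc.1 hsz).2.1 τ hτ)
    exact hgs (conj_inj (h5.trans h6.symm))
  · exact absurd h5 hτw
  · exact ⟨τ * g, mul_mem (hP.le hτ) hg, by rw [← cc, ← hw1', h5]⟩

/-- **(F3), natural `SL₂(2)` against a transposition of `S₅`.** -/
theorem exists_tw_nat [Finite G] (hG : IsCharacteristicTwoType G) (S : Sylow 2 G) {P P₂ : Subgroup G} {x : G}
    (h : Mutual (S : Subgroup G) P P₂ x) (hF : TypeFive (S : Subgroup G) P)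
    (h4 : Nat.card (zl (S : Subgroup G) P₂) = 4) : ∃ t n, Tw (S : Subgroup G) P t n := by
  have hle : zl (S : Subgroup G) P ≤ zc (o2 P) := h.star₁.isLoc.zl_le S hG
  have hle₂ : zl (S : Subgroup G) P₂ ≤ zc (o2 P₂) := h.star₂.isLoc.zl_le S hG
  -- `E`
  obtain ⟨E, hE⟩ : ∃ E, E = MulAut.conj x • zl (S : Subgroup G) P₂ := ⟨_, rfl⟩
  have hEc : ∀ a ∈ E, ∀ b ∈ E, a * b = b * a := by
    intro a ha b hb
    rw [hE, mem_csmul] at ha hb
    have h1 := zc_comm _ _ (hle₂ ha) _ (hle₂ hb)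
    calc a * b = x * ((x⁻¹ * a * x) * (x⁻¹ * b * x)) * x⁻¹ := by group
      _ = x * ((x⁻¹ * b * x) * (x⁻¹ * a * x)) * x⁻¹ := by rw [h1]
      _ = b * a := by group
  have hEs : ∀ a ∈ E, a * a = 1 := by
    intro a ha
    rw [hE, mem_csmul] at ha
    have h1 := zc_sq _ _ (hle₂ ha)
    rw [sq] at h1
    calc a * a = x * ((x⁻¹ * a * x) * (x⁻¹ * a * x)) * x⁻¹ := by group
      _ = 1 := by rw [h1]; group
  have hE4 : Nat.card E = 4 := by
    rw [hE, ← h4]
    exact (Nat.card_congr (equivSMul (MulAut.conj x) _).toEquiv).symm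
  have hEinv : ∀ a ∈ E, a⁻¹ = a := fun a ha => inv_eq_of_mul_eq_one_left (hEs a ha)
  have hVc : ∀ a ∈ zl (S : Subgroup G) P, ∀ b ∈ zl (S : Subgroup G) P, a * b = b * a := fun a ha b hb =>
    zc_comm _ _ (hle ha) _ (hle hb)
  have hVs : ∀ a ∈ zl (S : Subgroup G) P, a * a = 1 := fun a ha => by
    rw [← sq]; exact zc_sq _ _ (hle ha)
  have h1 : zl (S : Subgroup G) P ≤ normalizer (E : Set G) := hE ▸ h.le₁
  have h2 : E ≤ normalizer (zl (S : Subgroup G) P : Set G) := hE ▸ h.le₂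
  -- `v0`, `t`
  obtain ⟨v0, hv0, t, ht, hvt⟩ : ∃ v ∈ zl (S : Subgroup G) P, ∃ t ∈ E, v * t * v⁻¹ ≠ t := by
    by_contra hcon
    push Not at hcon
    apply h.ne
    rw [← hE, commutator_eq_bot_iff_le_centralizer]
    intro v hv
    rw [mem_centralizer_iff]
    intro t ht
    exact (comm_iff.1 (hcon v hv t ht)).symm
  have hVE : ∀ v ∈ zl (S : Subgroup G) P, ∀ a ∈ E, v * a * v⁻¹ ∈ E := fun v hv a ha =>
    (mem_normalizer_iff.1 (h1 hv) a).1 ha
  obtain ⟨n, hn⟩ : ∃ n, n = t * (v0 * t * v0⁻¹) := ⟨_, rfl⟩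
  have hnE : n ∈ E := hn ▸ mul_mem ht (hVE v0 hv0 t ht)
  have hn1 : n ≠ 1 := by
    intro e
    apply hvt
    calc v0 * t * v0⁻¹ = t * (t * (v0 * t * v0⁻¹)) := by rw [← mul_assoc, hEs t ht, one_mul]
      _ = t := by rw [← hn, e, mul_one]
  have hv0t : v0 * t * v0⁻¹ = t * n := by
    rw [hn, ← mul_assoc, hEs t ht, one_mul]
  have hnc0 : v0 * n * v0⁻¹ = n := by
    have e : v0 * (v0 * t * v0⁻¹) * v0⁻¹ = t := by
      rw [cc, hVs v0 hv0]; group
    rw [hn, cm, e, hEc _ (hVE v0 hv0 t ht) _ ht]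
  have htn : t ≠ n := fun e => hvt (by rw [e]; exact hnc0)
  have ht1 : t ≠ 1 := fun e => hvt (by rw [e]; group)
  have htnE : t * n ∈ E := mul_mem ht hnE
  have htn1 : t * n ≠ 1 := fun e => htn (by
    calc t = t * (n * n) := by rw [hEs n hnE, mul_one]
      _ = n := by rw [← mul_assoc, e, one_mul])
  have ht_tn : t ≠ t * n := fun e => hn1 (mul_eq_left.1 e.symm)
  have hn_tn : n ≠ t * n := fun e => ht1 (mul_eq_right.1 e.symm)
  have hmem : ∀ a ∈ E, a = 1 ∨ a = t ∨ a = n ∨ a = t * n := fun a ha =>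
    mem_four hE4 ht hnE htnE ht1 hn1 htn1 htn ht_tn hn_tn ha
  -- `V` centralises `n`
  have hVn : ∀ v ∈ zl (S : Subgroup G) P, v * n * v⁻¹ = n := by
    intro v hv
    have h3 : v0 * (v * n * v⁻¹) * v0⁻¹ = v * n * v⁻¹ := by
      rw [cc, hVc v0 hv0 v hv, ← cc, hnc0]
    rcases hmem _ (hVE v hv n hnE) with h5 | h5 | h5 | h5
    · exfalso; apply hn1
      calc n = v⁻¹ * (v * n * v⁻¹) * v := by group
        _ = 1 := by rw [h5]; group
    · rw [h5] at h3; exact absurd h3 hvt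
    · exact h5
    · rw [h5, cm, hnc0, hv0t, mul_assoc, hEs n hnE, mul_one] at h3
      exact absurd h3 ht_tn
  have hact : ∀ y : G, y * n * y⁻¹ = n → (∀ a ∈ E, y * a * y⁻¹ ∈ E) → y * t * y⁻¹ = t ∨ y * t * y⁻¹ = t * n := by
    intro y hyn hyE
    rcases hmem _ (hyE t ht) with h5 | h5 | h5 | h5
    · exfalso; apply ht1
      calc t = y⁻¹ * (y * t * y⁻¹) * y := by group
        _ = 1 := by rw [h5]; group
    · exact Or.inl h5
    · exact absurd (conj_inj (h5.trans hyn.symm)) htn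
    · exact Or.inr h5
  have hswap : ∀ y : G, (y * t * y⁻¹ = t ∨ y * t * y⁻¹ = t * n) → (t * y * t⁻¹ = y ∨ t * y * t⁻¹ = n * y) := by
    rintro y (h5 | h5)
    · left
      rw [comm_iff] at h5 ⊢
      exact h5.symm
    · right
      have h6 : y * t = t * n * y := by rw [← h5]; group
      calc t * y * t⁻¹ = t * (y * t) := by rw [hEinv t ht, mul_assoc]
        _ = (t * t) * n * y := by rw [h6]; group
        _ = n * y := by rw [hEs t ht, one_mul]
  -- `n` is 2-central, with a Sylow subgroup normalising `E`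
  obtain ⟨p, hp, hpV⟩ := hF
  obtain ⟨ρ, hstd⟩ := hp.exists_std S h.star₁.le
    (fun i => ((hle.trans (zc_le _)).trans (h.star₁.isLoc.o2_le S)) (hpV ▸ subset_closure (Set.mem_range_self i)))
    (fun y hy => hpV ▸ zc_le_zl _ _ hy)
  have hs : (p ∘ ρ) 4 ∈ zc (S : Subgroup G) :=
    mem_zc.2 ⟨hstd.mem 4, fun b hb => comm_iff.1 (hstd.fix b hb), by rw [sq]; exact hstd.sq 4⟩
  obtain ⟨g, hg, hgn⟩ := exists_conj_eq hG S h.star₂ h4 hstd.zc4 (hstd.ne 4) hs
    (w := x⁻¹ * n * x) (mem_csmul.1 (hE ▸ hnE)) (fun e => hn1 (by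
      calc n = x * (x⁻¹ * n * x) * x⁻¹ := by group
        _ = 1 := by rw [e]; group))
  have hn' : (x * g) * (p ∘ ρ) 4 * (x * g)⁻¹ = n := by
    rw [← cc, hgn]; group
  obtain ⟨T₀, hT₀⟩ : ∃ T₀ : Sylow 2 G, T₀ = (x * g) • S := ⟨_, rfl⟩
  have hT₀n : ∀ y ∈ (T₀ : Subgroup G), y * n * y⁻¹ = n := by
    intro y hy
    rw [hT₀, mem_smul] at hy
    have h5 := hstd.fix _ hy
    calc y * n * y⁻¹ = (x * g) * (((x * g)⁻¹ * y * (x * g)) * (p ∘ ρ) 4 * ((x * g)⁻¹ * y * (x * g))⁻¹) * (x * g)⁻¹ := by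
            rw [← hn']; group
      _ = n := by rw [h5, hn']
  have hT₀E : ∀ y ∈ (T₀ : Subgroup G), ∀ a ∈ E, y * a * y⁻¹ ∈ E := by
    intro y hy a ha
    rw [hT₀, mem_smul] at hy
    rw [hE, mem_csmul] at ha ⊢
    have h5 : g * ((x * g)⁻¹ * y * (x * g)) * g⁻¹ ∈ P₂ :=
      mul_mem (mul_mem hg (h.star₂.le hy)) (inv_mem hg)
    have h6 := (mem_normalizer_iff.1 (le_normalizer_zl _ _ h5) _).1 ha
    have e : g * ((x * g)⁻¹ * y * (x * g)) * g⁻¹ * (x⁻¹ * a * x) * (g * ((x * g)⁻¹ * y * (x * g)) * g⁻¹)⁻¹ =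
        x⁻¹ * (y * a * y⁻¹) * x := by group
    rwa [e] at h6
  refine ⟨t, n, h2 ht, MinSimple.Basic.isPGroup_zpowers (by rw [sq]; exact hEs t ht), ?_, ⟨v0, hv0, ?_⟩, ?_,
    ⟨T₀, hT₀n⟩, ?_⟩
  · intro v hv
    exact hswap v (hact v (hVn v hv) (hVE v hv))
  · intro e
    rw [comm_iff] at e
    exact hvt (comm_iff.2 e.symm)
  · rw [comm_iff]; exact hEc t ht n hnE
  · intro q hq
    have hqT : q ∈ (T₀ : Subgroup G) := by
      refine o2_le_of_sylow T₀.isPGroup' (MinSimple.Basic.not_dvd_relIndex T₀ (X := centralizer ({n} : Set G)) ?_) hq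
      exact fun y hy => mem_cent.2 (hT₀n y hy)
    exact hswap q (hact q (hT₀n q hqT) (hT₀E q hqT))

/-- **(F3), natural `SL₂(2)` against a transposition of `S₅`.** -/
theorem exit_nat [Finite G] (hG : IsCharacteristicTwoType G) (S : Sylow 2 G) {P P₂ : Subgroup G} {x : G}
    (h : Mutual (S : Subgroup G) P P₂ x) (hF : TypeFive (S : Subgroup G) P)
    (h4 : Nat.card (zl (S : Subgroup G) P₂) = 4) : Exit (S : Subgroup G) := by
  obtain ⟨t, n, ht⟩ := exists_tw_nat hG S h hF h4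
  exact ht.exit hG S h.star₁ hF

end Cfsg.Agent.Omega.NTwo
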