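import Cfsg.Agent.Omega.VP

/-!
# Exit N2, the core (text bb OMEGA 12859, helper690)

`S` a Sylow 2-subgroup of `G` (characteristic 2 type), `p : Fin 5 → G` the five singular vectors of the
`O₄⁻(2)`-module `V` for `P ≥ S`, `P` inducing all permutations of the five points, `Ω₁(Z(S)) = ⟨p 4⟩`,
`n = p 0 * p 1`, `S` permuting `n` and `p 2 * p 3`.  If `n` is 2-central then there is `P' ∈ P*(S)` with
`V_{P'} = {1, n, p 2 * p 3, p 4}`; if moreover some `t ∈ C(n)` induces the transposition `(0 1)` on the five points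
and `[O₂(C(n)), t] ≤ ⟨n⟩`, then `P'` and `C(p 4)` are in no common 2-local subgroup.
-/

set_option autoImplicit false

namespace Cfsg.Agent.Omega.NTwo

open Subgroup Cfsg Cfsg.Agent.ZN Cfsg.Agent.MinSimple.VModule
open Cfsg.Agent.Omega.MinPar (IsPar IsParS IsLoc NonLoc)

universe u

variable {G : Type u} [Group G]

theorem cm (g x y : G) : g * (x * y) * g⁻¹ = (g * x * g⁻¹) * (g * y * g⁻¹) := by group

theorem cc (g h x : G) : g * (h * x * h⁻¹) * g⁻¹ = (g * h) * x * (g * h)⁻¹ := by group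

theorem ci (g x : G) : g⁻¹ * (g * x * g⁻¹) * g = x := by group

theorem conj_inj {g x y : G} (h : g * x * g⁻¹ = g * y * g⁻¹) : x = y :=
  mul_left_cancel (mul_right_cancel h)

theorem comm_iff {g x : G} : g * x * g⁻¹ = x ↔ g * x = x * g := by
  constructor
  · intro h
    calc g * x = g * x * g⁻¹ * g := by group
      _ = x * g := by rw [h]
  · intro h
    rw [h]; group

theorem mem_cent {g x : G} : g ∈ centralizer ({x} : Set G) ↔ g * x * g⁻¹ = x := by
  rw [mem_centralizer_singleton_iff, comm_iff]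

/-- Five points permuted by `P` as the symmetric group of degree 5, with product 1. -/
structure Fv (P : Subgroup G) (p : Fin 5 → G) : Prop where
  ne : ∀ i, p i ≠ 1
  sq : ∀ i, p i * p i = 1
  comm : ∀ i j, p i * p j = p j * p i
  inj : Function.Injective p
  prod : p 0 * p 1 * (p 2 * p 3) = p 4
  perm : ∀ g ∈ P, ∃ σ : Equiv.Perm (Fin 5), ∀ i, g * p i * g⁻¹ = p (σ i)
  full : ∀ σ : Equiv.Perm (Fin 5), ∃ g ∈ P, ∀ i, g * p i * g⁻¹ = p (σ i)

namespace Fv

variable {P : Subgroup G} {p : Fin 5 → G} (h : Fv P p)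
include h

theorem prod' (σ : Equiv.Perm (Fin 5)) : p (σ 0) * p (σ 1) * (p (σ 2) * p (σ 3)) = p (σ 4) := by
  obtain ⟨g, -, hg⟩ := h.full σ
  rw [← hg 0, ← hg 1, ← hg 2, ← hg 3, ← hg 4, ← cm, ← cm, ← cm, h.prod]

theorem relabel (ρ : Equiv.Perm (Fin 5)) : Fv P (p ∘ ρ) where
  ne i := h.ne _
  sq i := h.sq _
  comm i j := h.comm _ _
  inj := h.inj.comp ρ.injective
  prod := h.prod' ρ
  perm g hg := by
    obtain ⟨σ, hσ⟩ := h.perm g hg
    refine ⟨ρ⁻¹ * σ * ρ, fun i => ?_⟩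
    simp only [Function.comp_apply, hσ, Equiv.Perm.mul_apply]
    rw [show ρ (ρ⁻¹ (σ (ρ i))) = σ (ρ i) from ρ.apply_symm_apply _]
  full σ := by
    obtain ⟨g, hg, h1⟩ := h.full (ρ * σ * ρ⁻¹)
    refine ⟨g, hg, fun i => ?_⟩
    simp only [Function.comp_apply, h1, Equiv.Perm.mul_apply]
    rw [show ρ⁻¹ (ρ i) = i from ρ.symm_apply_apply _]

theorem mul_ne_one {i j : Fin 5} (hij : i ≠ j) : p i * p j ≠ 1 := fun e => by
  refine hij (h.inj ?_)
  calc p i = p i * p j * p j := by rw [mul_assoc, h.sq, mul_one]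
    _ = p j := by rw [e, one_mul]

omit h in
theorem exists_fourth : ∀ i j k : Fin 5, ∃ l : Fin 5, l ≠ i ∧ l ≠ j ∧ l ≠ k := by decide

theorem mul_ne {i j : Fin 5} (hij : i ≠ j) (k : Fin 5) : p i * p j ≠ p k := by
  intro e
  have hki : k ≠ i := by
    rintro rfl
    exact h.ne j (mul_left_cancel (e.trans (mul_one _).symm))
  have hkj : k ≠ j := by
    rintro rfl
    exact h.ne i (mul_right_cancel (e.trans (one_mul _).symm))
  obtain ⟨l, hl1, hl2, hl3⟩ := exists_fourth i j k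
  obtain ⟨g, -, hg⟩ := h.full (Equiv.swap k l)
  have h1 := hg k
  rw [← e, cm, hg i, hg j, Equiv.swap_apply_of_ne_of_ne hki.symm hl1.symm,
    Equiv.swap_apply_of_ne_of_ne hkj.symm hl2.symm, e, Equiv.swap_apply_left] at h1
  exact hl3 (h.inj h1).symm

theorem pinv (i : Fin 5) : (p i)⁻¹ = p i := inv_eq_of_mul_eq_one_left (h.sq i)

omit h in
/-- two elements acting in the same way -/
theorem mem_of_same {M : Subgroup G} (hM : centralizer ({p 4} : Set G) ≤ M) {g g' : G}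
    (hg' : g' ∈ M) (e : ∀ i, g * p i * g⁻¹ = g' * p i * g'⁻¹) : g ∈ M := by
  have h1 : g'⁻¹ * g ∈ M := by
    apply hM
    rw [mem_cent]
    have := e 4
    calc g'⁻¹ * g * p 4 * (g'⁻¹ * g)⁻¹ = g'⁻¹ * (g * p 4 * g⁻¹) * g' := by group
      _ = p 4 := by rw [this]; group
  have := mul_mem hg' h1
  rwa [mul_inv_cancel_left] at this

end Fv

/-- Standard position. -/
structure Std (S P : Subgroup G) (p : Fin 5 → G) : Prop extends Fv P p where
  le : S ≤ P
  mem : ∀ i, p i ∈ S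
  fix : ∀ x ∈ S, x * p 4 * x⁻¹ = p 4
  part : ∀ x ∈ S, x * (p 0 * p 1) * x⁻¹ = p 0 * p 1 ∨ x * (p 0 * p 1) * x⁻¹ = p 2 * p 3
  tau : ∃ x ∈ S, x * (p 0 * p 1) * x⁻¹ = p 2 * p 3
  zc4 : ∀ x ∈ zc S, x = 1 ∨ x = p 4

/-- `n` -/
abbrev nn (p : Fin 5 → G) : G := p 0 * p 1

/-- `a` -/
abbrev aa (p : Fin 5 → G) : G := p 2 * p 3

namespace Std

variable {S P : Subgroup G} {p : Fin 5 → G} (h : Std S P p)
include h

theorem na : nn p * aa p = p 4 := h.prod

theorem nsq : nn p * nn p = 1 := by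
  rw [nn, mul_assoc, ← mul_assoc (p 1), h.comm 1 0, mul_assoc (p 0), h.sq, mul_one, h.sq]

theorem asq : aa p * aa p = 1 := by
  rw [aa, mul_assoc, ← mul_assoc (p 3), h.comm 3 2, mul_assoc (p 2), h.sq, mul_one, h.sq]

theorem a_eq : aa p = nn p * p 4 := by
  rw [← h.na, ← mul_assoc, h.nsq, one_mul]

theorem n_ne_one : nn p ≠ 1 := h.mul_ne_one (by decide)

theorem n_ne_four : nn p ≠ p 4 := h.mul_ne (by decide) 4

theorem a_ne_one : aa p ≠ 1 := h.mul_ne_one (by decide)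

theorem a_ne_four : aa p ≠ p 4 := h.mul_ne (by decide) 4

theorem n_ne_a : nn p ≠ aa p := fun e => h.ne 4 (by rw [← h.na, ← e, h.nsq])

theorem ns : nn p * p 4 = p 4 * nn p := by
  rw [nn, mul_assoc, h.comm 1 4, ← mul_assoc, h.comm 0 4, mul_assoc]

theorem an : aa p * nn p = p 4 := by
  rw [h.a_eq, h.ns, mul_assoc, h.nsq, mul_one]

theorem s_eq_conj {x : G} (hx : x ∈ S) (e : x * nn p * x⁻¹ = aa p) : x * aa p * x⁻¹ = nn p := by
  rw [h.a_eq, cm, e, h.fix x hx, h.a_eq, mul_assoc, h.sq, mul_one]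

theorem n_mem : nn p ∈ S := mul_mem (h.mem 0) (h.mem 1)

theorem a_mem : aa p ∈ S := mul_mem (h.mem 2) (h.mem 3)

/-- `T = C_S(n)` -/
def T (S : Subgroup G) (p : Fin 5 → G) : Subgroup G := S ⊓ centralizer ({nn p} : Set G)

omit h in
theorem mem_T {x : G} : x ∈ T S p ↔ x ∈ S ∧ x * nn p * x⁻¹ = nn p := by
  rw [T, mem_inf, mem_cent]

omit h in
theorem T_le : T S p ≤ S := inf_le_left

theorem T_a {x : G} (hx : x ∈ T S p) : x * aa p * x⁻¹ = aa p := by
  obtain ⟨h1, h2⟩ := mem_T.1 hx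
  rw [h.a_eq, cm, h2, h.fix x h1]

theorem le_norm_T : S ≤ normalizer (T S p : Set G) := by
  have key : ∀ x ∈ S, ∀ y ∈ T S p, x * y * x⁻¹ ∈ T S p := by
    intro x hx y hy
    obtain ⟨h1, h2⟩ := mem_T.1 hy
    refine mem_T.2 ⟨mul_mem (mul_mem hx h1) (inv_mem hx), ?_⟩
    have hx' := inv_mem hx
    have h3 : x⁻¹ * nn p * x = nn p ∨ x⁻¹ * nn p * x = aa p := by
      have := h.part x⁻¹ hx'
      rwa [inv_inv] at this
    have h4 : y * (x⁻¹ * nn p * x) * y⁻¹ = x⁻¹ * nn p * x := by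
      rcases h3 with h3 | h3
      · rw [h3, h2]
      · rw [h3, h.T_a hy]
    calc x * y * x⁻¹ * nn p * (x * y * x⁻¹)⁻¹ = x * (y * (x⁻¹ * nn p * x) * y⁻¹) * x⁻¹ := by group
      _ = nn p := by rw [h4]; group
  intro x hx
  rw [mem_normalizer_iff]
  refine fun y => ⟨key x hx y, fun hy => ?_⟩
  have := key x⁻¹ (inv_mem hx) _ hy
  have e : x⁻¹ * (x * y * x⁻¹) * x⁻¹⁻¹ = y := by group
  rwa [e] at this

theorem two_T {x y : G} (hx : x ∈ S) (hy : y ∈ S) (hx' : x ∉ T S p) (hy' : y ∉ T S p) : x⁻¹ * y ∈ T S p := by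
  have h1 : x * nn p * x⁻¹ = aa p := (h.part x hx).resolve_left fun e => hx' (mem_T.2 ⟨hx, e⟩)
  have h2 : y * nn p * y⁻¹ = aa p := (h.part y hy).resolve_left fun e => hy' (mem_T.2 ⟨hy, e⟩)
  refine mem_T.2 ⟨mul_mem (inv_mem hx) hy, ?_⟩
  calc x⁻¹ * y * nn p * (x⁻¹ * y)⁻¹ = x⁻¹ * (y * nn p * y⁻¹) * x := by group
    _ = x⁻¹ * (x * nn p * x⁻¹) * x := by rw [h1, h2]
    _ = nn p := by group

theorem card_S [Finite G] : Nat.card S = 2 * Nat.card (T S p) := by
  have e : Nat.card ((T S p).subgroupOf S) = Nat.card (T S p) := Nat.card_congr (subgroupOfEquivOfLe T_le).toEquiv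
  have h1 := card_mul_index ((T S p).subgroupOf S)
  obtain ⟨τ, hτ, h2⟩ := h.tau
  have h3 : ((T S p).subgroupOf S).index = 2 := by
    rw [index_eq_two_iff]
    refine ⟨⟨τ, hτ⟩⁻¹, fun b => ?_⟩
    have hτT : τ ∉ T S p := fun h3 => h.n_ne_a ((mem_T.1 h3).2.symm.trans h2)
    rw [mem_subgroupOf, mem_subgroupOf]
    change Xor ((b : G) * τ⁻¹ ∈ T S p) ((b : G) ∈ T S p)
    by_cases hb : (b : G) ∈ T S p
    · refine Or.inr ⟨hb, fun h4 => hτT ?_⟩
      have := mul_mem (inv_mem h4) hb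
      simpa using this
    · refine Or.inl ⟨?_, hb⟩
      have h5 := h.two_T (inv_mem b.2) (inv_mem hτ) (fun h6 => hb ((inv_mem_iff).1 h6))
        (fun h6 => hτT ((inv_mem_iff).1 h6))
      rwa [inv_inv] at h5
  rw [e, h3] at h1
  omega

/-- `Ω₁(Z(T)) = {1, n, a, s}` -/
theorem mem_zcT {x : G} : x ∈ zc (T S p) ↔ x = 1 ∨ x = nn p ∨ x = aa p ∨ x = p 4 := by
  constructor
  · intro hx
    obtain ⟨h1, h2, h3⟩ := mem_zc.1 hx
    obtain ⟨τ, hτ, h4⟩ := h.tau
    have hτT : τ ∉ T S p := fun h3 => h.n_ne_a ((mem_T.1 h3).2.symm.trans h4)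
    -- `[x, τ]` is in `Ω₁(Z(S))`
    have key : ∀ y ∈ zc (T S p), τ * y * τ⁻¹ = y → y = 1 ∨ y = p 4 := by
      intro y hy e
      apply h.zc4
      obtain ⟨k1, k2, k3⟩ := mem_zc.1 hy
      refine mem_zc.2 ⟨T_le k1, fun b hb => ?_, k3⟩
      by_cases hbT : b ∈ T S p
      · exact k2 b hbT
      · have h5 := h.two_T hτ hb hτT hbT
        have h6 := k2 _ h5
        rw [comm_iff] at e
        calc b * y = τ * (τ⁻¹ * b * y) := by group
          _ = τ * (y * (τ⁻¹ * b)) := by rw [h6]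
          _ = (τ * y) * (τ⁻¹ * b) := by group
          _ = y * b := by rw [e]; group
    have hτn : ∀ y ∈ zc (T S p), τ * y * τ⁻¹ ∈ zc (T S p) := fun y hy =>
      (mem_normalizer_iff.1 (normalizer_le_normalizer_zc _ (h.le_norm_T hτ)) y).1 hy
    have hsq : τ * τ ∈ T S p := by
      have := h.two_T (inv_mem hτ) hτ (fun h6 => hτT ((inv_mem_iff).1 h6)) hτT
      rwa [inv_inv] at this
    have hc : ∀ y ∈ zc (T S p), τ * (y * (τ * y * τ⁻¹)) * τ⁻¹ = y * (τ * y * τ⁻¹) := by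
      intro y hy
      obtain ⟨k1, k2, k3⟩ := mem_zc.1 hy
      have h5 : τ * (τ * y * τ⁻¹) * τ⁻¹ = y := by
        rw [cc, comm_iff]
        exact k2 _ hsq
      rw [cm, h5]
      exact zc_comm _ _ (hτn y hy) _ hy
    have h5 := key _ (mul_mem hx (hτn x hx)) (hc x hx)
    have hsx : x * x = 1 := by rw [← sq]; exact h3
    have hn : nn p ∈ zc (T S p) := mem_zc.2 ⟨mem_T.2 ⟨h.n_mem, by group⟩,
      fun b hb => comm_iff.1 (mem_T.1 hb).2, by rw [sq]; exact h.nsq⟩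
    rcases h5 with h5 | h5
    · have h6 : τ * x * τ⁻¹ = x := by
        calc τ * x * τ⁻¹ = x * (x * (τ * x * τ⁻¹)) := by rw [← mul_assoc, hsx, one_mul]
          _ = x := by rw [h5, mul_one]
      rcases key x hx h6 with h7 | h7
      · exact Or.inl h7
      · exact Or.inr (Or.inr (Or.inr h7))
    · have h6 : τ * (x * nn p) * τ⁻¹ = x * nn p := by
        have h8 : τ * x * τ⁻¹ = x * p 4 := by
          calc τ * x * τ⁻¹ = x * (x * (τ * x * τ⁻¹)) := by rw [← mul_assoc, hsx, one_mul]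
            _ = x * p 4 := by rw [h5]
        rw [cm, h8, h4, mul_assoc]
        change x * (p 4 * aa p) = x * nn p
        rw [h.a_eq, ← mul_assoc (p 4), ← h.ns, mul_assoc (nn p), h.sq, mul_one]
      have hxe : x = x * nn p * nn p := by rw [mul_assoc, h.nsq, mul_one]
      rcases key _ (mul_mem hx hn) h6 with h7 | h7
      · right; left
        rw [h7, one_mul] at hxe
        exact hxe
      · right; right; left
        rw [h7, ← h.ns, ← h.a_eq] at hxe
        exact hxe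
  · have h0 : ∀ y : G, (y ∈ S) → (∀ b ∈ T S p, b * y * b⁻¹ = y) → nn p * y * (nn p)⁻¹ = y → y * y = 1 → y ∈ zc (T S p) := by
      intro y h1 h2 h3 h4
      refine mem_zc.2 ⟨mem_T.2 ⟨h1, ?_⟩, fun b hb => comm_iff.1 (h2 b hb), by rw [sq]; exact h4⟩
      rw [comm_iff] at h3 ⊢
      exact h3.symm
    rintro (rfl | rfl | rfl | rfl)
    · exact one_mem _
    · exact h0 _ h.n_mem (fun b hb => (mem_T.1 hb).2) (by group) h.nsq
    · refine h0 _ h.a_mem (fun b hb => h.T_a hb) ?_ h.asq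
      rw [comm_iff, h.na, h.an]
    · refine h0 _ (h.mem 4) (fun b hb => h.fix b (T_le hb)) ?_ (h.sq 4)
      rw [comm_iff, h.ns]

end Std

end Cfsg.Agent.Omega.NTwo
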