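import Cfsg.Agent.Omega.NTwo.Leaf
import Cfsg.Agent.Omega.TTn.Dih
import Cfsg.Agent.Omega.S5.TTform

/-!
# 2-central `n` in the language of `FiveMod` (for the text bb OMEGA 14663, helper556)

`TwoC S M` : `Dih S M`, `n = M.e nn` is 2-central, some `w ∈ S ⊓ O₂(C(n))` acts on `V` as `(0 1)` and
`[O₂(C(n)), w] ≤ ⟨n⟩`.
* `twoC_nat` : natural `SL₂(2)` against a transposition of `S₅`;
* `twoC_tt` : T-T with 2-central `n`.
-/

set_option autoImplicit false

namespace Cfsg.Agent.Omega.NTwo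

open Subgroup Cfsg Cfsg.Agent.ZN Cfsg.Agent.ZN.ChoiceBase Cfsg.Agent.MinSimple.VModule Pointwise
open Cfsg.Agent.Omega.MinPar (IsPar IsParS IsLoc NonLoc)
open Cfsg.Agent.Omega.S5.Def Cfsg.Agent.Omega.S5.Main Cfsg.Agent.Omega.S5.Types Cfsg.Agent.Omega.S5.Mod
open Cfsg.Agent.Omega.S5.TTform (exists_label)
open Cfsg.Agent.Omega.TTn (Dih)
open scoped commutatorElement

universe u

variable {G : Type u} [Group G]

/-- 2-central `n`, a transposition in `O₂(C(n))`. -/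
structure TwoC (S : Sylow 2 G) {V L : Subgroup G} (M : FiveMod V L) : Prop where
  dih : Dih S M
  cen : ∃ T₀ : Sylow 2 G, (T₀ : Subgroup G) ≤ centralizer ({M.e S5.TT.nn} : Set G)
  ex : ∃ w ∈ (S : Subgroup G), M.Ind w (Equiv.swap 0 1) ∧ w ∈ o2 (centralizer ({M.e S5.TT.nn} : Set G)) ∧
    ∀ q ∈ o2 (centralizer ({M.e S5.TT.nn} : Set G)), w * q * w⁻¹ = q ∨ w * q * w⁻¹ = M.e S5.TT.nn * q

theorem single_pair : ∀ i j k l : Fin 5, i ≠ j → k ≠ l →
    ((Pi.single i 1 + Pi.single j 1 : Vec) = Pi.single k 1 + Pi.single l 1 ∨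
      (Pi.single i 1 + Pi.single j 1 : Vec) = Pi.single k 1 + Pi.single l 1 + 1) →
    (i = k ∧ j = l) ∨ (i = l ∧ j = k) := by decide +kernel

theorem perm_swap : ∀ σ : Equiv.Perm (Fin 5), (∀ i j : Fin 5, σ i ≠ i → σ j ≠ j →
    (σ i = σ j ∧ i = j) ∨ (σ i = j ∧ i = σ j)) → σ = 1 ∨ ∃ i j, i ≠ j ∧ σ = Equiv.swap i j := by
  decide +kernel

theorem mem_o2_conj {c n q : G} (hq : q ∈ o2 (centralizer ({c * n * c⁻¹} : Set G))) :
    c⁻¹ * q * c ∈ o2 (centralizer ({n} : Set G)) := by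
  have e1 : (o2 (centralizer ({n} : Set G))).map (MulAut.conj c).toMonoidHom =
      o2 ((centralizer ({n} : Set G)).map (MulAut.conj c).toMonoidHom) :=
    (MinPar.o2_map_equiv (MulAut.conj c) _).symm
  have e2 : (centralizer ({n} : Set G)).map (MulAut.conj c).toMonoidHom =
      centralizer ({c * n * c⁻¹} : Set G) := by
    ext x
    rw [mem_map_equiv, mem_cent, mem_cent]
    have e3 : (MulAut.conj c).symm x = c⁻¹ * x * c := by
      rw [MulEquiv.symm_apply_eq]; simp only [MulAut.conj_apply]; group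
    rw [e3]
    constructor
    · intro h
      calc x * (c * n * c⁻¹) * x⁻¹ = c * (c⁻¹ * x * c * n * (c⁻¹ * x * c)⁻¹) * c⁻¹ := by group
        _ = _ := by rw [h]
    · intro h
      calc c⁻¹ * x * c * n * (c⁻¹ * x * c)⁻¹ = c⁻¹ * (x * (c * n * c⁻¹) * x⁻¹) * c := by group
        _ = n := by rw [h]; group
  rw [e2] at e1
  rw [← e1, mem_cj] at hq
  exact hq

/-- **From `Tw` to `TwoC`.** -/
theorem Tw.exists_twoC [Finite G] (hG : IsCharacteristicTwoType G) (S : Sylow 2 G) {P : Subgroup G}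
    (hP : IsParS (S : Subgroup G) P) (M : FiveMod (zl (S : Subgroup G) P) P) {t n : G}
    (h : Tw (S : Subgroup G) P t n) : ∃ M' : FiveMod (zl (S : Subgroup G) P) P, TwoC S M' := by
  have hSN : (S : Subgroup G) ≤ normalizer (zl (S : Subgroup G) P : Set G) :=
    hP.le.trans (le_normalizer_zl _ _)
  obtain ⟨c, hc, hct⟩ := exists_conj_mem S hSN h.norm h.two
  have hcc : ∀ v ∈ zl (S : Subgroup G) P, c⁻¹ * v * c ∈ zl (S : Subgroup G) P := fun v hv => by
    have h1 := (mem_normalizer_iff.1 (inv_mem hc) v).1 hv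
    rwa [inv_inv] at h1
  have hcc' : ∀ v ∈ zl (S : Subgroup G) P, c * v * c⁻¹ ∈ zl (S : Subgroup G) P := fun v hv =>
    (mem_normalizer_iff.1 hc v).1 hv
  -- the conjugate `s = c t c⁻¹`, `m = c n c⁻¹`
  have hact : ∀ v ∈ zl (S : Subgroup G) P, c * t * c⁻¹ * v * (c * t * c⁻¹)⁻¹ = v ∨
      c * t * c⁻¹ * v * (c * t * c⁻¹)⁻¹ = c * n * c⁻¹ * v := by
    intro v hv
    have e : c * t * c⁻¹ * v * (c * t * c⁻¹)⁻¹ = c * (t * (c⁻¹ * v * c) * t⁻¹) * c⁻¹ := by group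
    rcases h.act _ (hcc v hv) with h1 | h1
    · left; rw [e, h1]; group
    · right; rw [e, h1]; group
  have hne : ∃ v ∈ zl (S : Subgroup G) P, c * t * c⁻¹ * v * (c * t * c⁻¹)⁻¹ ≠ v := by
    obtain ⟨v, hv, h1⟩ := h.ne
    refine ⟨c * v * c⁻¹, hcc' v hv, fun h2 => h1 ?_⟩
    calc t * v * t⁻¹ = c⁻¹ * (c * t * c⁻¹ * (c * v * c⁻¹) * (c * t * c⁻¹)⁻¹) * c := by group
      _ = v := by rw [h2]; group
  have hfix : c * t * c⁻¹ * (c * n * c⁻¹) * (c * t * c⁻¹)⁻¹ = c * n * c⁻¹ := by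
    calc c * t * c⁻¹ * (c * n * c⁻¹) * (c * t * c⁻¹)⁻¹ = c * (t * n * t⁻¹) * c⁻¹ := by group
      _ = _ := by rw [h.fix]
  have hcen : ∃ T₀ : Sylow 2 G, (T₀ : Subgroup G) ≤ centralizer ({c * n * c⁻¹} : Set G) := by
    obtain ⟨T₀, hT₀⟩ := h.cen
    refine ⟨c • T₀, fun x hx => mem_cent.2 ?_⟩
    have h1 := hT₀ _ (mem_smul.1 hx)
    calc x * (c * n * c⁻¹) * x⁻¹ = c * ((c⁻¹ * x * c) * n * (c⁻¹ * x * c)⁻¹) * c⁻¹ := by group
      _ = c * n * c⁻¹ := by rw [h1]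
  have hquad : ∀ q ∈ o2 (centralizer ({c * n * c⁻¹} : Set G)), c * t * c⁻¹ * q * (c * t * c⁻¹)⁻¹ = q ∨
      c * t * c⁻¹ * q * (c * t * c⁻¹)⁻¹ = c * n * c⁻¹ * q := by
    intro q hq
    have e : c * t * c⁻¹ * q * (c * t * c⁻¹)⁻¹ = c * (t * (c⁻¹ * q * c) * t⁻¹) * c⁻¹ := by group
    rcases h.quad _ (mem_o2_conj hq) with h1 | h1
    · left; rw [e, h1]; group
    · right; rw [e, h1]; group
  generalize c * t * c⁻¹ = s at hct hact hne hfix hquad
  generalize c * n * c⁻¹ = m at hact hfix hcen hquad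
  clear hcc hcc' hc c
  obtain ⟨v0, hv0, hv0'⟩ := hne
  have hsN := hSN hct
  have hm0 : s * v0 * s⁻¹ = m * v0 := (hact v0 hv0).resolve_left hv0'
  have hm1 : m ≠ 1 := fun e => hv0' (by rw [hm0, e, one_mul])
  have hmV : m ∈ zl (S : Subgroup G) P := by
    have e : m = s * v0 * s⁻¹ * v0⁻¹ := by rw [hm0]; group
    rw [e]
    exact mul_mem ((mem_normalizer_iff.1 hsN v0).1 hv0) (inv_mem hv0)
  have hmm : m * m = 1 := M.sq hmV
  have hVc : ∀ v ∈ zl (S : Subgroup G) P, m * v = v * m := fun v hv => M.comm hmV hv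
  -- the group `⟨s⟩`
  have hzp : ∀ w ∈ zpowers s, w * m * w⁻¹ = m ∧ ∀ v ∈ zl (S : Subgroup G) P, w * v * w⁻¹ = v ∨
      w * v * w⁻¹ = m * v := by
    let D : Subgroup G :=
      { carrier := {w | w ∈ normalizer (zl (S : Subgroup G) P : Set G) ∧ w * m * w⁻¹ = m ∧
          ∀ v ∈ zl (S : Subgroup G) P, w * v * w⁻¹ = v ∨ w * v * w⁻¹ = m * v}
        one_mem' := ⟨one_mem _, by group, fun v _ => Or.inl (by group)⟩
        mul_mem' := by
          rintro a b ⟨a1, a2, a3⟩ ⟨b1, b2, b3⟩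
          refine ⟨mul_mem a1 b1, ?_, fun v hv => ?_⟩
          · rw [← cc, b2, a2]
          · rcases b3 v hv with h1 | h1
            · rw [← cc, h1]; exact a3 v hv
            · rw [← cc, h1, cm, a2]
              rcases a3 v hv with h2 | h2
              · right; rw [h2]
              · left; rw [h2, ← mul_assoc, hmm, one_mul]
        inv_mem' := by
          rintro a ⟨a1, a2, a3⟩
          have e2 : a⁻¹ * m * a⁻¹⁻¹ = m := by
            calc a⁻¹ * m * a⁻¹⁻¹ = a⁻¹ * (a * m * a⁻¹) * a⁻¹⁻¹ := by rw [a2]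
              _ = m := by group
          refine ⟨inv_mem a1, e2, fun v hv => ?_⟩
          have hv' : a⁻¹ * v * a⁻¹⁻¹ ∈ zl (S : Subgroup G) P := (mem_normalizer_iff.1 (inv_mem a1) v).1 hv
          rcases a3 _ hv' with h1 | h1
          · left
            calc a⁻¹ * v * a⁻¹⁻¹ = a * (a⁻¹ * v * a⁻¹⁻¹) * a⁻¹ := h1.symm
              _ = v := by group
          · right
            have e3 : v = m * (a⁻¹ * v * a⁻¹⁻¹) := by
              rw [← h1]; group
            calc a⁻¹ * v * a⁻¹⁻¹ = m * (m * (a⁻¹ * v * a⁻¹⁻¹)) := by rw [← mul_assoc, hmm, one_mul]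
              _ = m * v := by rw [← e3] }
    have hD : zpowers s ≤ D := (zpowers_le).2 ⟨hsN, hfix, hact⟩
    exact fun w hw => (hD hw).2
  have hW : ∀ w ∈ zpowers s, ∀ σ, M.Ind w σ → σ = 1 ∨ σ.IsSwap := by
    intro w hw σ hσ
    refine perm_swap σ fun i j hi hj => ?_
    have key : ∀ i, σ i ≠ i → M.e (Pi.single (σ i) 1 + Pi.single i 1) = m := by
      intro i hi
      have h1 := (hzp w hw).2 _ (M.e_mem (Pi.single i 1))
      rw [hσ, FiveMod.single_comp] at h1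
      rcases h1 with h1 | h1
      · rw [M.e_eq_iff] at h1
        exact absurd (FiveMod.single_inj _ _ h1) hi
      · rw [M.e_add, h1, mul_assoc, M.e_sq, mul_one]
    have h1 := (key i hi).trans (key j hj).symm
    rw [M.e_eq_iff] at h1
    exact single_pair _ _ _ _ hi hj h1
  obtain ⟨M', h1, h2, h3, -⟩ := exists_label M S hP.le (W := zpowers s) ((zpowers_le).2 hct) hW
    ⟨s, mem_zpowers s, fun h0 => hv0' (by
      rw [comm_iff]
      exact (mem_centralizer_iff.1 h0 v0 hv0).symm)⟩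
  have hs : M'.Ind s (Equiv.swap 0 1) := by
    refine (h3 s (mem_zpowers s)).resolve_left fun h0 => hv0' ?_
    rw [comm_iff]
    exact (mem_centralizer_iff.1 (FiveMod.ind_one_iff.1 h0) v0 hv0).symm
  have hm : M'.e S5.TT.nn = m := by
    have h4 := hs (Pi.single 0 1)
    have h5 := hact _ (M'.e_mem (Pi.single 0 1))
    rw [h4] at h5
    rcases h5 with h5 | h5
    · rw [M'.e_eq_iff] at h5
      exact absurd h5 (by decide)
    · have h6 : M'.e ((Pi.single 0 1 : Vec) ∘ (Equiv.swap (0 : Fin 5) 1).symm + Pi.single 0 1) = m := by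
        rw [M'.e_add, h5, mul_assoc, M'.e_sq, mul_one]
      rw [← h6, M'.e_eq_iff]
      decide
  refine ⟨M', ⟨⟨hP.le, zc_le_zl _ _, h1, h2⟩, ?_, s, hct, hs, ?_, ?_⟩⟩
  · rw [hm]; exact hcen
  · rw [hm]
    refine le_o2_of_comm hG (by rw [sq]; exact hmm) hm1 (comm_iff.1 hfix) fun q hq => ?_
    rcases hquad q hq with h4 | h4
    · left; rw [h4, mul_inv_cancel]
    · right; rw [h4, mul_inv_cancel_right]
  · rw [hm]; exact hquad

theorem twoC_nat [Finite G] (hG : IsCharacteristicTwoType G) {S : Sylow 2 G} {P₁ P₂ : Subgroup G} {y : G}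
    {ε : (Fin (2 ^ 2 + 1) → ZMod 2) → G} (h : Lab S P₁ P₂ y 2 ε) (h4 : Nat.card (zl (S : Subgroup G) P₂) = 4) :
    ∃ M : FiveMod (zl (S : Subgroup G) P₁) P₁, TwoC S M := by
  obtain ⟨t, n, ht⟩ := tw_of_lab hG h h4
  exact ht.exists_twoC hG S h.pair.star₁ (S5.OfEven.ofEven h.even)

theorem twoC_tt [Finite G] (hG : IsCharacteristicTwoType G) {S : Sylow 2 G} {P₁ P₂ : Subgroup G} {y : G}
    {ε ε₂ : (Fin (2 ^ 2 + 1) → ZMod 2) → G} (h : LabTwo S P₁ P₂ y 2 2 ε ε₂)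
    (hA : TwoAct (cj y (zl (S : Subgroup G) P₂)) (zl (S : Subgroup G) P₁))
    (hB : TwoAct (zl (S : Subgroup G) P₁) (cj y (zl (S : Subgroup G) P₂)))
    (hC : Cen (zl (S : Subgroup G) P₁) (cj y (zl (S : Subgroup G) P₂))) :
    ∃ M : FiveMod (zl (S : Subgroup G) P₁) P₁, TwoC S M := by
  obtain ⟨t, n, ht⟩ := tw_of_labTwo hG h hA hB hC
  exact ht.exists_twoC hG S h.pair.star₁ (S5.OfEven.ofEven h.even)

end Cfsg.Agent.Omega.NTwo
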