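import Cfsg.Agent.Omega.NTwo.Pos
import Cfsg.Agent.Omega.Half.Basic

/-!
# Exit N2 (text bb OMEGA 12859, helper690)

`P ∈ P*(S)` of type `S₅` (`V_P` = even subsets of five points).
* `exit` : a 2-element `t` inducing a transposition on `V_P`, with 2-central centre `n` and
  `[O₂(C(n)), t] ≤ ⟨n⟩`, gives `P' ∈ P*(S)` with `|V_{P'}| = 4` and `⟨P', C(Ω₁Z(S))⟩` nonlocal;
* `exit_nat` : a mutual pair `V_P`, `(V_{P₂})^x` with `|V_{P₂}| = 4`;
* `exit_tt` : a mutual pair of type T-T (`V_P`, `(V_{P₂})^x`, both of type `S₅`, `[V, V'] = ⟨n⟩`), `n` 2-central.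
-/

set_option autoImplicit false

namespace Cfsg.Agent.Omega.NTwo

open Subgroup Cfsg Cfsg.Agent.ZN Cfsg.Agent.MinSimple.VModule Pointwise
open Cfsg.Agent.Omega.MinPar (IsPar IsParS IsLoc NonLoc isLoc_of_le_normalizer)
open scoped commutatorElement

universe u

variable {G : Type u} [Group G]

/-- `P` is of type `S₅` : `V_P` is the even-subset module of degree 5. -/
def TypeFive (S P : Subgroup G) : Prop := ∃ p : Fin 5 → G, Fv P p ∧ zl S P = closure (Set.range p)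

/-- the conclusion: exit N2 -/
def Exit (S : Subgroup G) : Prop :=
  ∃ P' : Subgroup G, IsParS S P' ∧ Nat.card (zl S P') = 4 ∧ NonLoc P' (centralizer (zc S : Set G))

/-- `t` is a 2-element, `[V_P, t] = ⟨n⟩`, `n` is 2-central, `[O₂(C(n)), t] ≤ ⟨n⟩`. -/
structure Tw (S P : Subgroup G) (t n : G) : Prop where
  norm : t ∈ normalizer (zl S P : Set G)
  two : IsPGroup 2 (zpowers t)
  act : ∀ v ∈ zl S P, t * v * t⁻¹ = v ∨ t * v * t⁻¹ = n * v
  ne : ∃ v ∈ zl S P, t * v * t⁻¹ ≠ v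
  fix : t * n * t⁻¹ = n
  cen : ∃ T₀ : Sylow 2 G, ∀ x ∈ (T₀ : Subgroup G), x * n * x⁻¹ = n
  quad : ∀ q ∈ o2 (centralizer ({n} : Set G)), t * q * t⁻¹ = q ∨ t * q * t⁻¹ = n * q

/-- exchange of the two transpositions -/
theorem Std.exchange {S P : Subgroup G} {p : Fin 5 → G} (h : Std S P p) :
    Std S P (p ∘ (Equiv.swap (0 : Fin 5) 2 * Equiv.swap 1 3 : Equiv.Perm (Fin 5))) := by
  have e0 : (Equiv.swap (0 : Fin 5) 2 * Equiv.swap 1 3 : Equiv.Perm (Fin 5)) 0 = 2 := by decide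
  have e1 : (Equiv.swap (0 : Fin 5) 2 * Equiv.swap 1 3 : Equiv.Perm (Fin 5)) 1 = 3 := by decide
  have e2 : (Equiv.swap (0 : Fin 5) 2 * Equiv.swap 1 3 : Equiv.Perm (Fin 5)) 2 = 0 := by decide
  have e3 : (Equiv.swap (0 : Fin 5) 2 * Equiv.swap 1 3 : Equiv.Perm (Fin 5)) 3 = 1 := by decide
  have e4 : (Equiv.swap (0 : Fin 5) 2 * Equiv.swap 1 3 : Equiv.Perm (Fin 5)) 4 = 4 := by decide
  have hpa : ∀ x ∈ S, x * aa p * x⁻¹ = aa p ∨ x * aa p * x⁻¹ = nn p := by
    intro x hx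
    rcases h.part x hx with h1 | h1
    · left
      rw [h.a_eq, cm, h.fix x hx]
      change (x * (p 0 * p 1) * x⁻¹) * p 4 = _
      rw [h1]
    · right; exact h.s_eq_conj hx h1
  refine { toFv := h.toFv.relabel _, le := h.le, mem := fun i => h.mem _, fix := ?_, part := ?_, tau := ?_, zc4 := ?_ }
  · simpa only [Function.comp_apply, e4] using h.fix
  · simpa only [Function.comp_apply, e0, e1, e2, e3] using hpa
  · obtain ⟨x, hx, h1⟩ := h.tau
    refine ⟨x, hx, ?_⟩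
    simp only [Function.comp_apply, e0, e1, e2, e3]
    exact h.s_eq_conj hx h1
  · simpa only [Function.comp_apply, e4] using h.zc4

/-- **Normal form** of a 2-element inducing a transvection on `V_P`. -/
theorem reduce [Finite G] (hG : IsCharacteristicTwoType G) (S : Sylow 2 G) {P : Subgroup G}
    (hP : IsParS (S : Subgroup G) P) (hF : TypeFive (S : Subgroup G) P) {t n : G}
    (htV : t ∈ normalizer (zl (S : Subgroup G) P : Set G)) (ht2 : IsPGroup 2 (zpowers t))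
    (ht : ∀ v ∈ zl (S : Subgroup G) P, t * v * t⁻¹ = v ∨ t * v * t⁻¹ = n * v)
    (hne : ∃ v ∈ zl (S : Subgroup G) P, t * v * t⁻¹ ≠ v) :
    ∃ c ∈ normalizer (zl (S : Subgroup G) P : Set G), ∃ p : Fin 5 → G, Std (S : Subgroup G) P p ∧
      zl (S : Subgroup G) P = closure (Set.range p) ∧ c * t * c⁻¹ ∈ (S : Subgroup G) ∧ c * n * c⁻¹ = nn p ∧
      c * t * c⁻¹ * p 0 * (c * t * c⁻¹)⁻¹ = p 1 := by
  obtain ⟨p, hp, hV⟩ := hF
  have hle : zl (S : Subgroup G) P ≤ zc (o2 P) := hP.isLoc.zl_le S hG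
  have hO : o2 P ≤ (S : Subgroup G) := hP.isLoc.o2_le S
  have hVS : zl (S : Subgroup G) P ≤ (S : Subgroup G) := (hle.trans (zc_le _)).trans hO
  obtain ⟨ρ, hstd⟩ := hp.exists_std S hP.le
    (fun i => hVS (hV ▸ subset_closure (Set.mem_range_self i))) (fun x hx => hV ▸ zc_le_zl _ _ hx)
  have hVρ : zl (S : Subgroup G) P = closure (Set.range (p ∘ ρ)) := by
    rw [ρ.surjective.range_comp, hV]
  clear hV hp
  generalize p ∘ ρ = p' at hstd hVρ
  clear ρ p
  have hSN : (S : Subgroup G) ≤ normalizer (zl (S : Subgroup G) P : Set G) :=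
    hP.le.trans (le_normalizer_zl _ _)
  obtain ⟨c, hc, hct⟩ := exists_conj_mem S hSN htV ht2
  have hcV : ∀ v ∈ zl (S : Subgroup G) P, c⁻¹ * v * c ∈ zl (S : Subgroup G) P := fun v hv => by
    have := (mem_normalizer_iff.1 (inv_mem hc) v).1 hv
    rwa [inv_inv] at this
  -- the action of `t' = c t c⁻¹`
  obtain ⟨t', ht'⟩ : ∃ t', t' = c * t * c⁻¹ := ⟨_, rfl⟩
  obtain ⟨n', hn'⟩ : ∃ n', n' = c * n * c⁻¹ := ⟨_, rfl⟩
  rw [← ht'] at hct
  have hact : ∀ v ∈ zl (S : Subgroup G) P, t' * v * t'⁻¹ = v ∨ t' * v * t'⁻¹ = n' * v := by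
    intro v hv
    rcases ht _ (hcV v hv) with h1 | h1
    · left
      calc t' * v * t'⁻¹ = c * (t * (c⁻¹ * v * c) * t⁻¹) * c⁻¹ := by rw [ht']; group
        _ = v := by rw [h1]; group
    · right
      calc t' * v * t'⁻¹ = c * (t * (c⁻¹ * v * c) * t⁻¹) * c⁻¹ := by rw [ht']; group
        _ = n' * v := by rw [h1, hn']; group
  have hne' : ∃ v ∈ zl (S : Subgroup G) P, t' * v * t'⁻¹ ≠ v := by
    obtain ⟨v, hv, h1⟩ := hne
    refine ⟨c * v * c⁻¹, (mem_normalizer_iff.1 hc v).1 hv, fun h2 => h1 ?_⟩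
    refine conj_inj (g := c) ?_
    rw [← h2, ht']
    group
  obtain ⟨σ, hσ⟩ := hstd.perm t' (hstd.le hct)
  have hpV : ∀ i, p' i ∈ zl (S : Subgroup G) P := fun i => hVρ ▸ subset_closure (Set.mem_range_self i)
  have hmov : ∃ i, σ i ≠ i := by
    by_contra hcon
    push Not at hcon
    obtain ⟨v, hv, h1⟩ := hne'
    refine h1 (comm_iff.2 ?_)
    have h2 : closure (Set.range p') ≤ centralizer ({t'} : Set G) := by
      rw [closure_le]
      rintro _ ⟨i, rfl⟩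
      rw [SetLike.mem_coe, mem_centralizer_singleton_iff]
      have := hσ i
      rw [hcon, comm_iff] at this
      exact this.symm
    exact (mem_centralizer_singleton_iff.1 (h2 (hVρ ▸ hv))).symm
  obtain ⟨i, hi⟩ := hmov
  have hn'ij : n' = p' i * p' (σ i) := by
    rcases hact _ (hpV i) with h1 | h1
    · rw [hσ] at h1; exact absurd (hstd.inj h1) hi
    · rw [hσ] at h1
      rw [hstd.comm, h1, mul_assoc, hstd.sq, mul_one]
  have hσk : ∀ k, k ≠ i → k ≠ σ i → σ k = k := by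
    intro k hk1 hk2
    rcases hact _ (hpV k) with h1 | h1
    · rw [hσ] at h1; exact hstd.inj h1
    · rw [hσ, hn'ij] at h1
      obtain ⟨d, e, hde, h2⟩ := hstd.three (Ne.symm hi) (Ne.symm hk1) (Ne.symm hk2)
      rw [h2] at h1
      exact absurd h1.symm (hstd.mul_ne hde _)
  have hσσ : σ (σ i) = i := by
    by_contra hne2
    have h1 : σ (σ (σ i)) = σ (σ i) := hσk _ hne2 (fun e => hi (σ.injective e))
    exact hi (σ.injective (σ.injective h1))
  have hi4 : i ≠ 4 := by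
    rintro rfl
    have := hstd.fix t' hct
    rw [hσ] at this
    exact hi (hstd.inj this)
  have hσi4 : σ i ≠ 4 := by
    intro e
    have h1 := hstd.fix t' hct
    rw [hσ] at h1
    have h2 := hstd.inj h1
    rw [← e, hσσ, e] at h2
    exact hi4 h2
  have hpart : ((i = 0 ∧ σ i = 1) ∨ (i = 1 ∧ σ i = 0)) ∨ ((i = 2 ∧ σ i = 3) ∨ (i = 3 ∧ σ i = 2)) := by
    have h1 := hstd.part t' hct
    rw [cm, hσ, hσ] at h1
    have h2 : σ 0 ≠ σ 1 := fun e => absurd (σ.injective e) (by decide)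
    have h3 : ((σ 0 = 0 ∧ σ 1 = 1) ∨ (σ 0 = 1 ∧ σ 1 = 0)) ∨ ((σ 0 = 2 ∧ σ 1 = 3) ∨ (σ 0 = 3 ∧ σ 1 = 2)) := by
      rcases h1 with h1 | h1
      · exact Or.inl (hstd.pair_inj h2 (by decide) h1)
      · exact Or.inr (hstd.pair_inj h2 (by decide) h1)
    clear hact hn'ij hσ hpV h1 h2
    revert σ i
    decide +kernel
  have hn'i : n' = p' (σ i) * p' i := by rw [hn'ij, hstd.comm]
  rcases hpart with (⟨e1, e2⟩ | ⟨e1, e2⟩) | (⟨e1, e2⟩ | ⟨e1, e2⟩)
  · refine ⟨c, hc, p', hstd, hVρ, ht' ▸ hct, ?_, ?_⟩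
    · rw [← hn', hn'ij, e2, e1]
    · rw [← ht', hσ, ← e1, e2]
  · refine ⟨c, hc, p', hstd, hVρ, ht' ▸ hct, ?_, ?_⟩
    · rw [← hn', hn'i, e2, e1]
    · rw [← ht', hσ, ← e2, hσσ, e1]
  · refine ⟨c, hc, _, hstd.exchange, ?_, ht' ▸ hct, ?_, ?_⟩
    · rw [Equiv.surjective _ |>.range_comp]; exact hVρ
    · rw [← hn', hn'ij, e2, e1]; rfl
    · rw [← ht']
      change t' * p' 2 * t'⁻¹ = p' 3
      rw [hσ, ← e1, e2]
  · refine ⟨c, hc, _, hstd.exchange, ?_, ht' ▸ hct, ?_, ?_⟩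
    · rw [Equiv.surjective _ |>.range_comp]; exact hVρ
    · rw [← hn', hn'i, e2, e1]; rfl
    · rw [← ht']
      change t' * p' 2 * t'⁻¹ = p' 3
      rw [hσ, ← e2, hσσ, e1]

/-- `C(Ω₁Z(S)) = C(p 4)` -/
theorem cent_zc {S P : Subgroup G} {p : Fin 5 → G} (h : Std S P p) :
    centralizer (zc S : Set G) = centralizer ({p 4} : Set G) := by
  have hs : p 4 ∈ zc S :=
    mem_zc.2 ⟨h.mem 4, fun b hb => comm_iff.1 (h.fix b hb), by rw [sq]; exact h.sq 4⟩
  ext g
  rw [mem_centralizer_singleton_iff, mem_centralizer_iff]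
  constructor
  · intro h1
    exact (h1 _ hs).symm
  · intro h1 x hx
    rcases h.zc4 x hx with rfl | rfl
    · simp
    · exact h1.symm

/-- the group `{1, n, a, s}` has order 4 -/
theorem card_four {S P P' : Subgroup G} {p : Fin 5 → G} (h : Std S P p)
    (hz : ∀ x, x ∈ zl S P' ↔ x = 1 ∨ x = nn p ∨ x = aa p ∨ x = p 4) : Nat.card (zl S P') = 4 := by
  classical
  have h1 : (zl S P' : Set G) = (({1, nn p, aa p, p 4} : Finset G) : Set G) := by
    ext x
    simp only [SetLike.mem_coe, hz, Finset.coe_insert, Finset.coe_singleton, Set.mem_insert_iff,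
      Set.mem_singleton_iff]
  have h2 : Nat.card (zl S P') = (zl S P' : Set G).ncard := rfl
  rw [h2, h1, Set.ncard_coe_finset, Finset.card_insert_of_notMem, Finset.card_insert_of_notMem,
    Finset.card_insert_of_notMem, Finset.card_singleton]
  · simp only [Finset.mem_singleton]; exact h.a_ne_four
  · simp only [Finset.mem_insert, Finset.mem_singleton, not_or]; exact ⟨h.n_ne_a, h.n_ne_four⟩
  · simp only [Finset.mem_insert, Finset.mem_singleton, not_or]
    exact ⟨h.n_ne_one.symm, h.a_ne_one.symm, (h.ne 4).symm⟩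

/-- **Exit N2, general form.** -/
theorem exit [Finite G] (hG : IsCharacteristicTwoType G) (S : Sylow 2 G) {P : Subgroup G}
    (hP : IsParS (S : Subgroup G) P) (hF : TypeFive (S : Subgroup G) P) {t n : G}
    (htV : t ∈ normalizer (zl (S : Subgroup G) P : Set G)) (ht2 : IsPGroup 2 (zpowers t))
    (ht : ∀ v ∈ zl (S : Subgroup G) P, t * v * t⁻¹ = v ∨ t * v * t⁻¹ = n * v)
    (hne : ∃ v ∈ zl (S : Subgroup G) P, t * v * t⁻¹ ≠ v) (htn : t * n * t⁻¹ = n)
    (T₀ : Sylow 2 G) (hT₀ : ∀ x ∈ (T₀ : Subgroup G), x * n * x⁻¹ = n)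
    (htQ : ∀ q ∈ o2 (centralizer ({n} : Set G)), t * q * t⁻¹ = q ∨ t * q * t⁻¹ = n * q) :
    Exit (S : Subgroup G) := by
  obtain ⟨c, hc, p, hstd, hV, hct, hcn, hct0⟩ := reduce hG S hP hF htV ht2 ht hne
  have hT₁ : ∀ x ∈ ((c • T₀ : Sylow 2 G) : Subgroup G), x * nn p * x⁻¹ = nn p := by
    intro x hx
    have h1 := hT₀ _ (mem_smul.1 hx)
    calc x * nn p * x⁻¹ = c * ((c⁻¹ * x * c) * n * (c⁻¹ * x * c)⁻¹) * c⁻¹ := by rw [← hcn]; group
      _ = nn p := by rw [h1, hcn]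
  obtain ⟨P', hP', hy, hz, -⟩ := exists_par S hstd (c • T₀) hT₁
  refine ⟨P', hP', card_four hstd hz, ?_⟩
  rw [cent_zc hstd]
  refine nonLoc hG S hstd hP'.le hy (c • T₀) hT₁ (t := c * t * c⁻¹) hct0 ?_ ?_
  · calc c * t * c⁻¹ * nn p * (c * t * c⁻¹)⁻¹ = c * (t * n * t⁻¹) * c⁻¹ := by rw [← hcn]; group
      _ = nn p := by rw [htn, hcn]
  · intro q hq
    have h1 : c⁻¹ * q * c ∈ o2 (centralizer ({n} : Set G)) := by
      have e1 : (o2 (centralizer ({n} : Set G))).map (MulAut.conj c).toMonoidHom =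
          o2 ((centralizer ({n} : Set G)).map (MulAut.conj c).toMonoidHom) :=
        (MinPar.o2_map_equiv (MulAut.conj c) _).symm
      have e2 : (centralizer ({n} : Set G)).map (MulAut.conj c).toMonoidHom = centralizer ({nn p} : Set G) := by
        ext x
        rw [mem_map_equiv, mem_cent, mem_cent]
        have : (MulAut.conj c).symm x = c⁻¹ * x * c := by
          rw [MulAut.conj_symm_apply]
        rw [this, ← hcn]
        constructor
        · intro h1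
          calc x * (c * n * c⁻¹) * x⁻¹ = c * ((c⁻¹ * x * c) * n * (c⁻¹ * x * c)⁻¹) * c⁻¹ := by group
            _ = c * n * c⁻¹ := by rw [h1]
        · intro h1
          calc (c⁻¹ * x * c) * n * (c⁻¹ * x * c)⁻¹ = c⁻¹ * (x * (c * n * c⁻¹) * x⁻¹) * c := by group
            _ = n := by rw [h1]; group
      rw [← e2, ← e1] at hq
      obtain ⟨q', hq', rfl⟩ := hq
      have : c⁻¹ * (MulAut.conj c).toMonoidHom q' * c = q' := by
        change c⁻¹ * (c * q' * c⁻¹) * c = q'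
        group
      rwa [this]
    rcases htQ _ h1 with h2 | h2
    · left
      calc c * t * c⁻¹ * q * (c * t * c⁻¹)⁻¹ = c * (t * (c⁻¹ * q * c) * t⁻¹) * c⁻¹ := by group
        _ = q := by rw [h2]; group
    · right
      calc c * t * c⁻¹ * q * (c * t * c⁻¹)⁻¹ = c * (t * (c⁻¹ * q * c) * t⁻¹) * c⁻¹ := by group
        _ = c * n * c⁻¹ * q := by rw [h2]; group
        _ = nn p * q := by rw [hcn]

theorem Tw.exit [Finite G] (hG : IsCharacteristicTwoType G) (S : Sylow 2 G) {P : Subgroup G}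
    (hP : IsParS (S : Subgroup G) P) (hF : TypeFive (S : Subgroup G) P) {t n : G}
    (h : Tw (S : Subgroup G) P t n) : Exit (S : Subgroup G) := by
  obtain ⟨T₀, hT₀⟩ := h.cen
  exact NTwo.exit hG S hP hF h.norm h.two h.act h.ne h.fix T₀ hT₀ h.quad

end Cfsg.Agent.Omega.NTwo
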