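import Cfsg.Agent.Omega.NTwo.TT
import Cfsg.Agent.Omega.S5.Main

/-!
# Exit N2: the inputs `NatFive` and `TTCen` of `Omega/S5/Main.lean`
-/

set_option autoImplicit false

namespace Cfsg.Agent.Omega.NTwo

open Subgroup Cfsg Cfsg.Agent.ZN Cfsg.Agent.ZN.ChoiceBase Cfsg.Agent.MinSimple.VModule Pointwise
open Cfsg.Agent.Omega.MinPar (IsPar IsParS IsLoc NonLoc)
open Cfsg.Agent.Omega.S5.Def Cfsg.Agent.Omega.S5.Main Cfsg.Agent.Omega.S5.Types
open scoped commutatorElement

universe u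

section

variable {G : Type u} [Group G]

/-- the five points of an even-subset module -/
theorem fv_of_even {V L : Subgroup G} {ε : (Fin 5 → ZMod 2) → G} (h : EvenSet 5 V L ε) :
    Fv L fun i => ε (Pi.single i 1) where
  ne i := h.single_ne_one (by norm_num) i
  sq i := h.sq _
  comm i j := h.comm _ _
  inj _ _ hij := h.single_inj (by norm_num) hij
  prod := by
    rw [← h.add, ← h.add, ← h.add, h.eq_iff]
    right
    decide
  perm g hg := by
    obtain ⟨σ, hσ⟩ := h.perm g hg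
    exact ⟨σ, fun i => hσ.single i⟩
  full σ := by
    obtain ⟨g, hg, hσ⟩ := h.full σ
    exact ⟨g, hg, fun i => hσ.single i⟩

theorem eq_closure_of_even {V L : Subgroup G} {ε : (Fin 5 → ZMod 2) → G} (h : EvenSet 5 V L ε) :
    V = closure (Set.range fun i => ε (Pi.single i 1)) := by
  apply le_antisymm
  · intro v hv
    obtain ⟨x, rfl⟩ := h.surj v hv
    have key : ∀ s : Finset (Fin 5), ε (∑ i ∈ s, Pi.single i (x i)) ∈
        closure (Set.range fun i => ε (Pi.single i 1)) := by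
      intro s
      induction s using Finset.induction_on with
      | empty => rw [Finset.sum_empty, h.zero]; exact one_mem _
      | insert i s hi ih =>
        rw [Finset.sum_insert hi, h.add]
        refine mul_mem ?_ ih
        rcases (by decide : ∀ a : ZMod 2, a = 0 ∨ a = 1) (x i) with h0 | h0
        · rw [h0, Pi.single_zero, h.zero]; exact one_mem _
        · rw [h0]; exact subset_closure ⟨i, rfl⟩
    have h1 := key Finset.univ
    rwa [Finset.univ_sum_single] at h1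
  · rw [closure_le]
    rintro _ ⟨i, rfl⟩
    exact h.mem _

theorem typeFive_of_even {S P : Subgroup G} {ε : (Fin 5 → ZMod 2) → G} (h : EvenSet 5 (zl S P) P ε) :
    TypeFive S P := ⟨_, fv_of_even h, eq_closure_of_even h⟩

end

/-- **`NatFive`** -/
theorem natFive : NatFive.{u} := by
  intro G _ _ hG S _ _ P₁ P₂ y ε h _ _ h4
  obtain ⟨P', h1, h2, h3⟩ := exit_nat hG.char2 S h.pair (typeFive_of_even h.even) h4
  exact ⟨P', h1, h2, h3⟩

/-- `NatFive`: the element `t`. -/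
theorem tw_of_lab {G : Type u} [Group G] [Finite G] (hG : IsCharacteristicTwoType G) {S : Sylow 2 G}
    {P₁ P₂ : Subgroup G} {y : G} {ε : (Fin (2 ^ 2 + 1) → ZMod 2) → G} (h : Lab S P₁ P₂ y 2 ε)
    (h4 : Nat.card (zl (S : Subgroup G) P₂) = 4) : ∃ t n, Tw (S : Subgroup G) P₁ t n :=
  exists_tw_nat hG S h.pair (typeFive_of_even h.even) h4

/-- `TTCen`: the element `t`. -/
theorem tw_of_labTwo {G : Type u} [Group G] [Finite G] (hG : IsCharacteristicTwoType G) {S : Sylow 2 G}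
    {P₁ P₂ : Subgroup G} {y : G} {ε ε₂ : (Fin (2 ^ 2 + 1) → ZMod 2) → G} (h : LabTwo S P₁ P₂ y 2 2 ε ε₂)
    (hA : TwoAct (cj y (zl (S : Subgroup G) P₂)) (zl (S : Subgroup G) P₁))
    (hB : TwoAct (zl (S : Subgroup G) P₁) (cj y (zl (S : Subgroup G) P₂)))
    (hC : Cen (zl (S : Subgroup G) P₁) (cj y (zl (S : Subgroup G) P₂))) :
    ∃ t n, Tw (S : Subgroup G) P₁ t n := by
  obtain ⟨T₀, hT₀⟩ := hC
  obtain ⟨v0, hv0, w0, hw0, hne⟩ : ∃ v0 ∈ zl (S : Subgroup G) P₁, ∃ w0 ∈ MulAut.conj y • zl (S : Subgroup G) P₂,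
      v0 * w0 ≠ w0 * v0 := by
    by_contra hcon
    push Not at hcon
    refine h.pair.ne ((commutator_eq_bot_iff_le_centralizer).2 fun v hv => mem_centralizer_iff.2 fun w hw => ?_)
    exact (hcon v hv w hw).symm
  have e1 : cj y (zl (S : Subgroup G) P₂) = MulAut.conj y • zl (S : Subgroup G) P₂ := rfl
  rw [e1] at hA hB hT₀
  have hT : ∀ v ∈ zl (S : Subgroup G) P₁, ∀ w ∈ MulAut.conj y • zl (S : Subgroup G) P₂,
      v * w * v⁻¹ = w ∨ v * w * v⁻¹ = (v0 * w0 * v0⁻¹ * w0⁻¹) * w := by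
    intro v hv w hw
    by_cases hvc : v ∈ centralizer ((MulAut.conj y • zl (S : Subgroup G) P₂ : Subgroup G) : Set G)
    · left
      rw [comm_iff]
      exact (mem_centralizer_iff.1 hvc w hw).symm
    by_cases hwc : w ∈ centralizer (zl (S : Subgroup G) P₁ : Set G)
    · left
      rw [comm_iff]
      exact mem_centralizer_iff.1 hwc v hv
    right
    have hv0c : v0 ∉ centralizer ((MulAut.conj y • zl (S : Subgroup G) P₂ : Subgroup G) : Set G) := fun h0 =>
      hne (mem_centralizer_iff.1 h0 w0 hw0).symm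
    have hw0c : w0 ∉ centralizer (zl (S : Subgroup G) P₁ : Set G) := fun h0 =>
      hne (mem_centralizer_iff.1 h0 v0 hv0)
    obtain ⟨c, hc, hvc'⟩ : ∃ c, c ∈ centralizer ((MulAut.conj y • zl (S : Subgroup G) P₂ : Subgroup G) : Set G) ∧
        v = v0 * c := ⟨v0⁻¹ * v, hB v0 hv0 v hv hv0c hvc, by group⟩
    obtain ⟨d, hd, hwd⟩ : ∃ d, d ∈ centralizer (zl (S : Subgroup G) P₁ : Set G) ∧
        w = w0 * d := ⟨w0⁻¹ * w, hA w0 hw0 w hw hw0c hwc, by group⟩
    have k1 : w * c = c * w := mem_centralizer_iff.1 hc w hw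
    have k2 : v0 * d = d * v0 := mem_centralizer_iff.1 hd v0 hv0
    calc v * w * v⁻¹ = v0 * (c * w) * c⁻¹ * v0⁻¹ := by rw [hvc']; group
      _ = v0 * (w * c) * c⁻¹ * v0⁻¹ := by rw [k1]
      _ = v0 * w0 * v0⁻¹ * (v0 * d) * v0⁻¹ := by rw [hwd]; group
      _ = v0 * w0 * v0⁻¹ * (d * v0) * v0⁻¹ := by rw [k2]
      _ = (v0 * w0 * v0⁻¹ * w0⁻¹) * w := by rw [hwd]; group
  obtain ⟨t, ht⟩ := exists_tw_tt hG S h.pair (typeFive_of_even h.even) (typeFive_of_even h.even₂) hT T₀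
    fun t ht => by
      rw [comm_iff]
      exact (mem_centralizer_iff.1 (hT₀ ht) _ (commutator_mem_commutator hv0 hw0)).symm
  exact ⟨t, _, ht⟩

/-- **`TTCen`** -/
theorem ttCen : TTCen.{u} := by
  intro G _ _ hG S _ _ P₁ P₂ y ε ε₂ h hA hB hC
  obtain ⟨t, n, ht⟩ := tw_of_labTwo hG.char2 h hA hB hC
  obtain ⟨P', h1, h2, h3⟩ := ht.exit hG.char2 S h.pair.star₁ (typeFive_of_even h.even)
  exact ⟨P', h1, h2, h3⟩

end Cfsg.Agent.Omega.NTwo
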