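import Cfsg.Agent.Omega.NTwo.Par

/-!
# Exit N2: standard position of the Sylow subgroup
-/

set_option autoImplicit false

namespace Cfsg.Agent.Omega.NTwo

open Subgroup Cfsg Cfsg.Agent.ZN Cfsg.Agent.MinSimple.VModule Pointwise
open Cfsg.Agent.Omega.MinPar (IsPar IsParS IsLoc NonLoc isLoc_of_le_normalizer)

universe u

variable {G : Type u} [Group G]

/-! ### The elements of `V` -/

theorem exists_perm : ∀ a b c d : Fin 5, a ≠ b → a ≠ c → a ≠ d → b ≠ c → b ≠ d → c ≠ d →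
    ∃ σ : Equiv.Perm (Fin 5), σ 0 = a ∧ σ 1 = b ∧ σ 2 = c ∧ σ 3 = d := by
  decide +kernel

namespace Fv

variable {P : Subgroup G} {p : Fin 5 → G} (h : Fv P p)
include h

theorem pair_inj {a b c d : Fin 5} (hab : a ≠ b) (hcd : c ≠ d) (e : p a * p b = p c * p d) :
    (a = c ∧ b = d) ∨ (a = d ∧ b = c) := by
  by_cases hac : a = c
  · subst hac
    exact Or.inl ⟨rfl, h.inj (mul_left_cancel e)⟩
  by_cases had : a = d
  · subst had
    rw [h.comm c a] at e
    exact Or.inr ⟨rfl, h.inj (mul_left_cancel e)⟩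
  by_cases hbc : b = c
  · subst hbc
    rw [h.comm a b] at e
    exact absurd (h.inj (mul_left_cancel e)) had
  by_cases hbd : b = d
  · subst hbd
    exact absurd (h.inj (mul_right_cancel e)) hac
  exfalso
  -- `p a * p b * p c * p d = 1` although it is `p e`
  obtain ⟨σ, h0, h1, h2, h3⟩ := exists_perm a b c d hab hac had hbc hbd hcd
  have h5 := h.prod' σ
  rw [h0, h1, h2, h3, e] at h5
  refine h.ne (σ 4) ?_
  rw [← h5, mul_assoc, ← mul_assoc (p d), h.comm d c, mul_assoc (p c), h.sq, mul_one, h.sq]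

/-- `p a p b p c` with `a, b, c` distinct is `p d p e` -/
theorem three {a b c : Fin 5} (hab : a ≠ b) (hac : a ≠ c) (hbc : b ≠ c) :
    ∃ d e : Fin 5, d ≠ e ∧ p a * p b * p c = p d * p e := by
  obtain ⟨σ, h0, h1, h2⟩ : ∃ σ : Equiv.Perm (Fin 5), σ 0 = a ∧ σ 1 = b ∧ σ 2 = c := by
    revert a b c
    decide +kernel
  have h5 := h.prod' σ
  rw [h0, h1, h2] at h5
  refine ⟨σ 4, σ 3, fun e => absurd (σ.injective e) (by decide), ?_⟩
  rw [← h5, mul_assoc, mul_assoc, mul_assoc, mul_assoc, h.sq, mul_one]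

theorem mem_closure {x : G} (hx : x ∈ closure (Set.range p)) :
    x = 1 ∨ (∃ i, x = p i) ∨ ∃ i j, i ≠ j ∧ x = p i * p j := by
  have key : ∀ x : G, (x = 1 ∨ (∃ i, x = p i) ∨ ∃ i j, i ≠ j ∧ x = p i * p j) → ∀ k,
      (x * p k = 1 ∨ (∃ i, x * p k = p i) ∨ ∃ i j, i ≠ j ∧ x * p k = p i * p j) := by
    rintro x (rfl | ⟨i, rfl⟩ | ⟨i, j, hij, rfl⟩) k
    · right; left; exact ⟨k, one_mul _⟩
    · by_cases hik : i = k
      · subst hik; left; exact h.sq i
      · right; right; exact ⟨i, k, hik, rfl⟩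
    · by_cases hjk : j = k
      · subst hjk; right; left; exact ⟨i, by rw [mul_assoc, h.sq, mul_one]⟩
      · by_cases hik : i = k
        · subst hik; right; left
          exact ⟨j, by rw [h.comm i j, mul_assoc, h.sq, mul_one]⟩
        · right; right
          exact h.three hij hik hjk
  induction hx using closure_induction_right with
  | one => exact Or.inl rfl
  | mul_right x hx y hy ih =>
    obtain ⟨k, rfl⟩ := hy
    exact key x ih k
  | mul_inv_cancel x hx y hy ih =>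
    obtain ⟨k, rfl⟩ := hy
    rw [h.pinv]
    exact key x ih k

/-- the permutation representation -/
theorem exists_hom : ∃ φ : P →* Equiv.Perm (Fin 5), Function.Surjective φ ∧
    ∀ (g : P) (i : Fin 5), (g : G) * p i * (g : G)⁻¹ = p (φ g i) := by
  choose f hf using fun g : P => h.perm g g.2
  refine ⟨⟨⟨f, ?_⟩, ?_⟩, ?_, hf⟩
  · ext i
    have h1 : p i = p (f 1 i) := by simpa using hf 1 i
    rw [← h.inj h1]
    rfl
  · intro a b
    ext i
    have h1 := hf (a * b) i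
    have h2 : ((a * b : P) : G) * p i * ((a * b : P) : G)⁻¹ = p (f a (f b i)) := by
      rw [← hf a, ← hf b, cc]
      rfl
    rw [h1] at h2
    rw [h.inj h2]
    rfl
  · intro σ
    obtain ⟨g, hg, h1⟩ := h.full σ
    refine ⟨⟨g, hg⟩, ?_⟩
    ext i
    have := hf ⟨g, hg⟩ i
    rw [show ((⟨g, hg⟩ : P) : G) = g from rfl, h1] at this
    exact congrArg Fin.val (h.inj this).symm

end Fv

/-! ### The dihedral group of order 8 -/

/-- the partition `01 | 23 | 4` -/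
def col : Fin 5 → Fin 3 := ![0, 0, 1, 1, 2]

/-- permutations preserving the partition -/
def D8 : Subgroup (Equiv.Perm (Fin 5)) where
  carrier := {σ | ∀ i j, col i = col j ↔ col (σ i) = col (σ j)}
  one_mem' := fun _ _ => Iff.rfl
  mul_mem' := fun {a b} ha hb i j => (hb i j).trans (ha _ _)
  inv_mem' := fun {a} ha i j => by
    have := ha (a⁻¹ i) (a⁻¹ j)
    rw [show a (a⁻¹ i) = i from a.apply_symm_apply i, show a (a⁻¹ j) = j from a.apply_symm_apply j] at this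
    exact this.symm

instance (σ : Equiv.Perm (Fin 5)) : Decidable (σ ∈ D8) :=
  inferInstanceAs (Decidable (∀ i j, col i = col j ↔ col (σ i) = col (σ j)))

theorem D8_card : Nat.card D8 = 8 := by
  rw [Nat.card_eq_fintype_card]
  decide +kernel

theorem D8_fix : ∀ σ ∈ D8, σ 4 = 4 := by decide +kernel

theorem D8_part : ∀ σ ∈ D8, ((σ 0 = 0 ∧ σ 1 = 1) ∨ (σ 0 = 1 ∧ σ 1 = 0)) ∨
    ((σ 0 = 2 ∧ σ 1 = 3) ∨ (σ 0 = 3 ∧ σ 1 = 2)) := by decide +kernel

theorem D8_tau : (Equiv.swap (0 : Fin 5) 2 * Equiv.swap 1 3) ∈ D8 := by decide +kernel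

theorem D8_one : ∀ i : Fin 5, i ≠ 4 → ∃ σ ∈ D8, σ i ≠ i := by decide +kernel

theorem D8_two : ∀ i j : Fin 5, i ≠ j → ∃ σ ∈ D8, ¬ ((σ i = i ∧ σ j = j) ∨ (σ i = j ∧ σ j = i)) := by
  decide +kernel

theorem D8_index : D8.index = 15 := by
  have h1 := card_mul_index D8
  rw [D8_card, Nat.card_perm, Nat.card_eq_fintype_card, Fintype.card_fin] at h1
  have h2 : Nat.factorial 5 = 8 * 15 := rfl
  rw [h2] at h1
  omega

/-- `D8` as a Sylow 2-subgroup -/
theorem exists_D8 : ∃ D : Sylow 2 (Equiv.Perm (Fin 5)), (D : Subgroup _) = D8 := by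
  have hp : Fact (Nat.Prime 2) := ⟨Nat.prime_two⟩
  have h1 : IsPGroup 2 D8 := IsPGroup.of_card (n := 3) (by rw [D8_card]; norm_num)
  exact ⟨h1.toSylow (by rw [D8_index]; decide), rfl⟩

/-- **Standard position.** -/
theorem Fv.exists_std [Finite G] (S : Sylow 2 G) {P : Subgroup G} {p : Fin 5 → G} (h : Fv P p)
    (hSP : (S : Subgroup G) ≤ P) (hmem : ∀ i, p i ∈ (S : Subgroup G))
    (hzc : ∀ x ∈ zc (S : Subgroup G), x ∈ closure (Set.range p)) :
    ∃ ρ : Equiv.Perm (Fin 5), Std (S : Subgroup G) P (p ∘ ρ) := by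
  have hp : Fact (Nat.Prime 2) := ⟨Nat.prime_two⟩
  obtain ⟨φ, hφs, hφ⟩ := h.exists_hom
  obtain ⟨D, hD⟩ := exists_D8
  obtain ⟨ρ, hρ⟩ := MulAction.exists_smul_eq (Equiv.Perm (Fin 5)) D ((S.subtype hSP).mapSurjective hφs)
  -- the image of `S`
  have h1 : ∀ σ, σ ∈ ((S : Subgroup G).subgroupOf P).map φ ↔ ρ⁻¹ * σ * ρ ∈ D8 := by
    intro σ
    have h2 : (((S.subtype hSP).mapSurjective hφs : Sylow 2 (Equiv.Perm (Fin 5))) : Subgroup _) =
        ((S : Subgroup G).subgroupOf P).map φ := by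
      rw [Sylow.coe_mapSurjective]; rfl
    rw [← h2, ← hρ, ← hD]
    exact mem_smul
  have hS : ∀ x ∈ (S : Subgroup G), ∃ d ∈ D8, ∀ i, x * (p ∘ ρ) i * x⁻¹ = (p ∘ ρ) (d i) := by
    intro x hx
    have h2 : φ ⟨x, hSP hx⟩ ∈ ((S : Subgroup G).subgroupOf P).map φ := ⟨_, mem_subgroupOf.2 hx, rfl⟩
    refine ⟨_, (h1 _).1 h2, fun i => ?_⟩
    have h3 := hφ ⟨x, hSP hx⟩ (ρ i)
    change x * p (ρ i) * x⁻¹ = _ at h3
    rw [Function.comp_apply, h3, Function.comp_apply, Equiv.Perm.mul_apply, Equiv.Perm.mul_apply]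
    rw [show ρ (ρ⁻¹ _) = _ from ρ.apply_symm_apply _]
  have hD : ∀ d ∈ D8, ∃ x ∈ (S : Subgroup G), ∀ i, x * (p ∘ ρ) i * x⁻¹ = (p ∘ ρ) (d i) := by
    intro d hd
    have h2 : ρ * d * ρ⁻¹ ∈ ((S : Subgroup G).subgroupOf P).map φ := by
      rw [h1]
      have e : ρ⁻¹ * (ρ * d * ρ⁻¹) * ρ = d := by group
      rwa [e]
    obtain ⟨x, hx, h3⟩ := h2
    refine ⟨x, mem_subgroupOf.1 hx, fun i => ?_⟩
    have h4 := hφ x (ρ i)
    rw [Function.comp_apply, h4, h3, Function.comp_apply, Equiv.Perm.mul_apply, Equiv.Perm.mul_apply]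
    rw [show ρ⁻¹ (ρ i) = i from ρ.symm_apply_apply _]
  have h' := h.relabel ρ
  refine ⟨ρ, { toFv := h', le := hSP, mem := fun i => hmem _, fix := ?_, part := ?_, tau := ?_, zc4 := ?_ }⟩
  · intro x hx
    obtain ⟨d, hd, h2⟩ := hS x hx
    rw [h2, D8_fix d hd]
  · intro x hx
    obtain ⟨d, hd, h2⟩ := hS x hx
    rw [cm, h2, h2]
    rcases D8_part d hd with (⟨e1, e2⟩ | ⟨e1, e2⟩) | (⟨e1, e2⟩ | ⟨e1, e2⟩)
    · left; rw [e1, e2]
    · left; rw [e1, e2]; exact h'.comm _ _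
    · right; rw [e1, e2]
    · right; rw [e1, e2]; exact h'.comm _ _
  · obtain ⟨x, hx, h2⟩ := hD _ D8_tau
    refine ⟨x, hx, ?_⟩
    rw [cm, h2, h2]
    rfl
  · intro x hx
    have h2 : ∀ b ∈ (S : Subgroup G), b * x * b⁻¹ = x := fun b hb => comm_iff.2 ((mem_zc.1 hx).2.1 b hb)
    have h3 : x ∈ closure (Set.range (p ∘ ρ)) := by
      rw [ρ.surjective.range_comp]
      exact hzc x hx
    rcases h'.mem_closure h3 with h4 | ⟨i, rfl⟩ | ⟨i, j, hij, rfl⟩
    · exact Or.inl h4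
    · right
      by_cases hi : i = 4
      · rw [hi]
      · exfalso
        obtain ⟨d, hd, h5⟩ := D8_one i hi
        obtain ⟨b, hb, h6⟩ := hD d hd
        have h7 := h2 b hb
        rw [h6] at h7
        exact h5 (h'.inj h7)
    · exfalso
      obtain ⟨d, hd, h5⟩ := D8_two i j hij
      obtain ⟨b, hb, h6⟩ := hD d hd
      have h7 := h2 b hb
      rw [cm, h6, h6] at h7
      exact h5 (h'.pair_inj (fun e => hij (d.injective e)) hij h7)

end Cfsg.Agent.Omega.NTwo
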